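import Groth.Agent.Lib.Helper6.Det.Wmat
import Groth.Agent.Lib.Helper6.Grass.Schubert
import Groth.Agent.S11275

/-!
# Determinantal varieties: standard bitableaux span (helper6)
-/

open scoped Classical
set_option linter.unusedSectionVars false
set_option autoImplicit false

universe u v

noncomputable section

namespace Groth.Agent.Lib.Helper6.Det

open W4bk4grassmannian Groth.Agent.Lib.Helper6.Gr MvPolynomial

variable {m n : ℕ} (K : Type u) [CommRing K]

/-- The comorphism of `Z ↦ [Z ; J]` on Plücker coordinates. -/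
def EE (m n : ℕ) : PlRing K n (m + n) →ₐ[K] MvPolynomial (Fin m × Fin n) K :=
  evalAt K (Wmat (genMatrix K m n))

lemma minorOf_eq (M : MinorIdx m n) :
    minorOf K M = ((uSign M : ℤ) : MvPolynomial (Fin m × Fin n) K) *
      pM (Wmat (genMatrix K m n)) (Phi M).1 := by
  rw [pM_Wmat_Phi, ← mul_assoc, ← Int.cast_mul, Int.units_coe_mul_self, Int.cast_one, one_mul]
  rfl

lemma EE_X_Phi (M : MinorIdx m n) :
    EE K m n (X (Phi M)) = ((uSign M : ℤ) : MvPolynomial (Fin m × Fin n) K) * minorOf K M := by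
  unfold EE
  rw [evalAt_X, pM_Wmat_Phi]
  rfl

lemma EE_X_topN : EE K m n (X (topN m n)) = ((uTop n : ℤ) : MvPolynomial (Fin m × Fin n) K) := by
  unfold EE
  rw [evalAt_X, pM_Wmat_topN]

lemma plIdealTop_le_ker_EE :
    plIdealTop (d := n) (n := m + n) K ≤ RingHom.ker (EE K m n).toRingHom := by
  unfold plIdealTop
  rw [Ideal.span_le]
  rintro f ⟨i, j, r, _, rfl⟩
  rw [SetLike.mem_coe, RingHom.mem_ker]
  exact evalAt_shuffleRel K _ i j r

/-- The `1 × 1` minor. -/
def M1 (i : Fin m) (j : Fin n) : MinorIdx m n :=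
  ⟨0, (⟨fun _ => i, fun a b h => absurd h (by rw [Fin.lt_def]; omega)⟩,
    ⟨fun _ => j, fun a b h => absurd h (by rw [Fin.lt_def]; omega)⟩)⟩

lemma minorOf_M1 (i : Fin m) (j : Fin n) : minorOf K (M1 i j) = X (i, j) := by
  show Matrix.det ((genMatrix K m n).submatrix (fun _ : Fin 1 => i) (fun _ : Fin 1 => j)) = X (i, j)
  rw [Matrix.det_fin_one]
  rfl

theorem EE_surjective : Function.Surjective (EE K m n) := by
  rw [← AlgHom.range_eq_top, ← top_le_iff, ← MvPolynomial.adjoin_range_X]
  apply Algebra.adjoin_le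
  rintro _ ⟨⟨i, j⟩, rfl⟩
  refine ⟨((uSign (M1 i j) : ℤ) : PlRing K n (m + n)) * X (Phi (M1 i j)), ?_⟩
  show EE K m n _ = _
  rw [map_mul, map_intCast, EE_X_Phi, ← mul_assoc, ← Int.cast_mul, Int.units_coe_mul_self,
    Int.cast_one, one_mul, minorOf_M1]

/-- Product of minors along a tuple. -/
def bitab {k : ℕ} (c : Fin k → MinorIdx m n) : MvPolynomial (Fin m × Fin n) K :=
  Finset.univ.prod fun i => minorOf K (c i)

lemma all_ne_top {len : ℕ} (c : Fin (len + 1) → Idx n (m + n)) (hc : Antitone c)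
    (h0 : c 0 ≠ topN m n) (k : Fin (len + 1)) : c k ≠ topN m n := by
  intro hk
  apply h0
  have h1 : c k ≤ c 0 := hc (Fin.zero_le k)
  rw [hk] at h1
  exact le_antisymm (le_topI _ _) h1

theorem EE_chainMon : ∀ (len : ℕ) (c : Fin len → Idx n (m + n)), Antitone c →
    ∃ (u : ℤˣ) (k : ℕ) (c' : Fin k → MinorIdx m n), (∀ i j, i < j → MinorGE (c' i) (c' j)) ∧
      EE K m n (chainMon K c) = ((u : ℤ) : MvPolynomial (Fin m × Fin n) K) * bitab K c' := by
  intro len
  induction len with
  | zero =>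
    intro c _
    refine ⟨1, 0, Fin.elim0, fun i => i.elim0, ?_⟩
    unfold chainMon bitab
    simp
  | succ len ih =>
    intro c hc
    by_cases h0 : c 0 = topN m n
    · have hcons : c = Fin.cons (c 0) (Fin.tail c) := (Fin.cons_self_tail c).symm
      have htail : Antitone (Fin.tail c) := by
        intro x y hxy
        exact hc (Fin.succ_le_succ_iff.mpr hxy)
      obtain ⟨u, k, c', hstd, he⟩ := ih (Fin.tail c) htail
      refine ⟨uTop n * u, k, c', hstd, ?_⟩
      rw [hcons, chainMon_cons, map_mul, he, h0, EE_X_topN, Units.val_mul, Int.cast_mul, mul_assoc]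
    · have hall := all_ne_top c hc h0
      have hex : ∀ k, ∃ M : MinorIdx m n, Phi M = c k := fun k => exists_Phi_eq (c k) (hall k)
      choose M hM using hex
      refine ⟨∏ k, uSign (M k), len + 1, M, ?_, ?_⟩
      · intro i j hij
        rw [← Phi_le_iff, hM, hM]
        exact hc (le_of_lt hij)
      · unfold chainMon bitab
        rw [map_prod, Units.coe_prod, Int.cast_prod, ← Finset.prod_mul_distrib]
        apply Finset.prod_congr rfl
        intro k _
        rw [← hM k, EE_X_Phi]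

/-- All standard bitableaux span the polynomial ring. -/
theorem span_bitab_eq_top :
    Submodule.span K (Set.range fun c : (Σ k : ℕ, {c : Fin k → MinorIdx m n //
      ∀ i j, i < j → MinorGE (c i) (c j)}) => bitab K c.2.1) = ⊤ := by
  rw [eq_top_iff]
  intro f _
  obtain ⟨g, rfl⟩ := EE_surjective K (m := m) (n := n) f
  have hg : g ∈ stdAll K (d := n) (n := m + n) ⊔
      (plIdealTop (d := n) (n := m + n) K).restrictScalars K := by
    rw [stdAll_sup_plIdealTop]; trivial
  rw [Submodule.mem_sup] at hg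
  obtain ⟨s, hs, i, hi, rfl⟩ := hg
  have hi' : EE K m n i = 0 := by
    have := plIdealTop_le_ker_EE K (m := m) (n := n) hi
    rwa [RingHom.mem_ker] at this
  rw [map_add, hi', add_zero]
  unfold stdAll at hs
  have : EE K m n s ∈ Submodule.map (EE K m n).toLinearMap
      (Submodule.span K (Set.range fun c : (Σ m' : ℕ, {c : Fin m' → Idx n (m + n) // Antitone c}) =>
        chainMon K c.2.1)) := ⟨s, hs, rfl⟩
  rw [Submodule.map_span] at this
  refine (Submodule.span_le.mpr ?_) this
  rintro _ ⟨_, ⟨⟨len, c, hc⟩, rfl⟩, rfl⟩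
  obtain ⟨u, k, c', hstd, he⟩ := EE_chainMon K len c hc
  show EE K m n (chainMon K c) ∈ _
  rw [he]
  have hmem : bitab K c' ∈ Submodule.span K (Set.range fun c : (Σ k : ℕ, {c : Fin k → MinorIdx m n //
      ∀ i j, i < j → MinorGE (c i) (c j)}) => bitab K c.2.1) :=
    Submodule.subset_span ⟨⟨k, c', hstd⟩, rfl⟩
  have e : ((u : ℤ) : MvPolynomial (Fin m × Fin n) K) * bitab K c' = ((u : ℤ) : K) • bitab K c' := by
    rw [Algebra.smul_def]
    congr 1
  rw [e]
  exact Submodule.smul_mem _ _ hmem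

/-- Minors of size at least `t` lie in the ideal of `t`-minors. -/
theorem minorOf_mem (M : MinorIdx m n) (t : ℕ) (h : t ≤ M.1 + 1) :
    minorOf K M ∈ CAlgX.minorIdeal (genMatrix K m n) t := by
  have := Groth.Agent.S11275.det_mem_rows (M.1 + 1)
    ((genMatrix K m n).submatrix M.2.1.1 M.2.2.1) t (Fin.castLE h) (Fin.castLE_injective h)
  unfold minorOf
  refine (Ideal.span_le.mpr ?_) this
  rintro _ ⟨γ, rfl⟩
  unfold CAlgX.minorIdeal
  apply Ideal.subset_span
  exact ⟨(fun i => M.2.1.1 (Fin.castLE h i), fun i => M.2.2.1 (γ i)), rfl⟩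

/-- The standard bitableaux of size `< t` span the determinantal ring. -/
theorem span_quot (t : ℕ) :
    Submodule.span K (Set.range fun c : (Σ k : ℕ, {c : Fin k → MinorIdx m n //
        (∀ i, (c i).1 + 1 ≤ t - 1) ∧ ∀ i j, i < j → MinorGE (c i) (c j)}) =>
        Ideal.Quotient.mk (CAlgX.minorIdeal (genMatrix K m n) t)
          (Finset.univ.prod fun i => minorOf K (c.2.1 i))) = ⊤ := by
  by_cases ht : t = 0
  · subst ht
    have : CAlgX.minorIdeal (genMatrix K m n) 0 = ⊤ := by
      unfold CAlgX.minorIdeal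
      rw [Ideal.eq_top_iff_one]
      apply Ideal.subset_span
      refine ⟨(Fin.elim0, Fin.elim0), ?_⟩
      simp
    rw [eq_top_iff]
    intro x _
    obtain ⟨f, rfl⟩ := Ideal.Quotient.mk_surjective x
    have : Ideal.Quotient.mk (CAlgX.minorIdeal (genMatrix K m n) 0) f = 0 := by
      rw [Ideal.Quotient.eq_zero_iff_mem, this]; trivial
    rw [this]
    exact Submodule.zero_mem _
  rw [eq_top_iff]
  intro x _
  obtain ⟨f, rfl⟩ := Ideal.Quotient.mk_surjective x
  have hf : f ∈ Submodule.span K (Set.range fun c : (Σ k : ℕ, {c : Fin k → MinorIdx m n //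
      ∀ i j, i < j → MinorGE (c i) (c j)}) => bitab K c.2.1) := by
    rw [span_bitab_eq_top]; trivial
  have : (Ideal.Quotient.mkₐ K (CAlgX.minorIdeal (genMatrix K m n) t)).toLinearMap f ∈
      Submodule.map (Ideal.Quotient.mkₐ K (CAlgX.minorIdeal (genMatrix K m n) t)).toLinearMap
      (Submodule.span K (Set.range fun c : (Σ k : ℕ, {c : Fin k → MinorIdx m n //
      ∀ i j, i < j → MinorGE (c i) (c j)}) => bitab K c.2.1)) := ⟨f, hf, rfl⟩
  rw [Submodule.map_span] at this
  refine (Submodule.span_le.mpr ?_) this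
  rintro _ ⟨_, ⟨⟨k, c, hc⟩, rfl⟩, rfl⟩
  show Ideal.Quotient.mk _ (bitab K c) ∈ _
  by_cases hsz : ∀ i, (c i).1 + 1 ≤ t - 1
  · exact Submodule.subset_span ⟨⟨k, c, hsz, hc⟩, rfl⟩
  · push Not at hsz
    obtain ⟨i, hi⟩ := hsz
    have hmem : bitab K c ∈ CAlgX.minorIdeal (genMatrix K m n) t := by
      unfold bitab
      rw [← Finset.mul_prod_erase _ _ (Finset.mem_univ i)]
      apply Ideal.mul_mem_right
      exact minorOf_mem K (c i) t (by omega)
    rw [Ideal.Quotient.eq_zero_iff_mem.mpr hmem]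
    exact Submodule.zero_mem _

end Groth.Agent.Lib.Helper6.Det

end
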