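import Groth.Agent.Lib.Helper6.Det.RhoLI
import Groth.Agent.Lib.Helper6.Det.Span
import Groth.Agent.Lib.Helper6.Grass.Flip

/-!
# Determinantal rings as dehomogenized opposite Schubert cones: the kernel (helper6)

The kernel of `K[X_θ] → K[Z] ⧸ I_{r+1}`, `X_θ ↦ p_θ([Z ; J])`, is the Richardson ideal of
`[vT r, top]` plus `(ε X_top - 1)`.
-/

open scoped Classical
set_option linter.unusedSectionVars false
set_option autoImplicit false

universe u v

noncomputable section

namespace Groth.Agent.Lib.Helper6.Det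

open W4bk4grassmannian Groth.Agent.Lib.Helper6.Gr MvPolynomial

variable {m : ℕ} (n : ℕ) (K : Type u) [Field K] (r : ℕ) (hr : r ≤ m)

/-- The composite `rho ∘ EE` on a Plücker coordinate. -/
lemma rho_EE_X (hn : 0 < n) (θ : Idx n (m + n)) :
    rho n K r hr (EE K m n (X θ)) = Psi n K r hr (X θ) * (hmat n K r hr).det := by
  unfold EE
  rw [evalAt_X]
  have h1 : rho n K r hr (pM (Wmat (genMatrix K m n)) θ.1) =
      pM ((Wmat (genMatrix K m n)).map (rho n K r hr).toRingHom) θ.1 :=
    map_pM (rho n K r hr).toRingHom _ _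
  rw [h1, Wmat_map]
  have h2 : (genMatrix K m n).map (rho n K r hr).toRingHom = Y0 n K r hr :=
    genMatrix_map_rho n K r hr
  rw [h2, Wmat_Y0 n K r hr hn, pM_mul, Psi_apply]
  congr 1
  unfold phiB
  rw [evalAt_X, map_pM]
  rfl

/-- The sign `ε` as an element of the Plücker ring. -/
abbrev EC : PlRing K n (m + n) := C (((uTop n : ℤ) : K))

lemma EC_mul_self : EC (m := m) n K * EC n K = 1 := by
  unfold EC
  rw [← C_mul, ← Int.cast_mul, Int.units_coe_mul_self, Int.cast_one, C_1]

lemma EC_pow_mul_self (N : ℕ) : EC (m := m) n K ^ N * EC n K ^ N = 1 := by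
  rw [← mul_pow, EC_mul_self, one_pow]

lemma Psi_EC : Psi n K r hr (EC n K) = ((uTop n : ℤ) : FrP K m n) := by
  unfold EC
  rw [← MvPolynomial.algebraMap_eq, AlgHom.commutes, map_intCast]

lemma rho_EE_EC : rho n K r hr (EE K m n (EC n K)) = ((uTop n : ℤ) : FrP K m n) := by
  unfold EC
  rw [← MvPolynomial.algebraMap_eq, AlgHom.commutes, AlgHom.commutes, map_intCast]

/-- Homogenization: every `f` has a multiple-by-sign representative `g` with
`Psi g = Psi(X_top)^N * rho (EE f)`. -/
theorem exists_homogenization (hn : 0 < n) (f : PlRing K n (m + n)) :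
    ∃ (N : ℕ) (g : PlRing K n (m + n)),
      Psi n K r hr g = Psi n K r hr (X (topN m n)) ^ N * rho n K r hr (EE K m n f) ∧
      g - EC n K ^ N * f ∈ Ideal.span {(X (topN m n) - EC n K : PlRing K n (m + n))} := by
  induction f using MvPolynomial.induction_on with
  | C c =>
    refine ⟨0, C c, ?_, ?_⟩
    · rw [pow_zero, one_mul, ← MvPolynomial.algebraMap_eq, AlgHom.commutes, AlgHom.commutes,
        AlgHom.commutes]
    · rw [pow_zero, one_mul, sub_self]
      exact Ideal.zero_mem _
  | add f₁ f₂ ih₁ ih₂ =>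
    obtain ⟨N₁, g₁, h₁, k₁⟩ := ih₁
    obtain ⟨N₂, g₂, h₂, k₂⟩ := ih₂
    refine ⟨N₁ + N₂, X (topN m n) ^ N₂ * g₁ + X (topN m n) ^ N₁ * g₂, ?_, ?_⟩
    · rw [map_add, map_mul, map_mul, map_pow, map_pow, h₁, h₂, map_add, map_add]
      ring
    · have hd : ∀ k : ℕ, (X (topN m n) : PlRing K n (m + n)) ^ k - EC n K ^ k ∈
          Ideal.span {(X (topN m n) - EC n K : PlRing K n (m + n))} := fun k =>
        Ideal.mem_span_singleton.mpr (sub_dvd_pow_sub_pow _ _ k)
      have e : X (topN m n) ^ N₂ * g₁ + X (topN m n) ^ N₁ * g₂ - EC n K ^ (N₁ + N₂) * (f₁ + f₂) =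
          X (topN m n) ^ N₂ * (g₁ - EC n K ^ N₁ * f₁) +
          (X (topN m n) ^ N₂ - EC n K ^ N₂) * (EC n K ^ N₁ * f₁) +
          (X (topN m n) ^ N₁ * (g₂ - EC n K ^ N₂ * f₂) +
          (X (topN m n) ^ N₁ - EC n K ^ N₁) * (EC n K ^ N₂ * f₂)) := by
        ring
      rw [e]
      refine Ideal.add_mem _ (Ideal.add_mem _ ?_ ?_) (Ideal.add_mem _ ?_ ?_)
      · exact Ideal.mul_mem_left _ _ k₁
      · exact Ideal.mul_mem_right _ _ (hd N₂)
      · exact Ideal.mul_mem_left _ _ k₂
      · exact Ideal.mul_mem_right _ _ (hd N₁)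
  | mul_X f θ ih =>
    obtain ⟨N, g, h, k⟩ := ih
    refine ⟨N + 1, g * (EC n K * X θ), ?_, ?_⟩
    · rw [map_mul, map_mul, h, Psi_EC, map_mul, map_mul, rho_EE_X n K r hr hn θ, pow_succ]
      have h3 := Psi_top_mul n K r hr hn
      calc Psi n K r hr (X (topN m n)) ^ N * rho n K r hr (EE K m n f) *
            (((uTop n : ℤ) : FrP K m n) * Psi n K r hr (X θ))
          = Psi n K r hr (X (topN m n)) ^ N * rho n K r hr (EE K m n f) * Psi n K r hr (X θ) *
            ((uTop n : ℤ) : FrP K m n) := by ring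
        _ = Psi n K r hr (X (topN m n)) ^ N * rho n K r hr (EE K m n f) * Psi n K r hr (X θ) *
            (Psi n K r hr (X (topN m n)) * (hmat n K r hr).det) := by rw [h3]
        _ = _ := by ring
    · have e : g * (EC n K * X θ) - EC n K ^ (N + 1) * (f * X θ) =
          (g - EC n K ^ N * f) * (EC n K * X θ) := by ring
      rw [e]
      exact Ideal.mul_mem_right _ _ k

/-- The kernel ideal. -/
def coneIdeal : Ideal (PlRing K n (m + n)) :=
  plIdealB K (vT r hr) (topN m n) ⊔ Ideal.span {(EC n K * X (topN m n) - 1 : PlRing K n (m + n))}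

lemma span_top_sub_EC :
    Ideal.span {(X (topN m n) - EC n K : PlRing K n (m + n))} =
      Ideal.span {(EC n K * X (topN m n) - 1 : PlRing K n (m + n))} := by
  apply le_antisymm
  · rw [Ideal.span_singleton_le_iff_mem, Ideal.mem_span_singleton]
    refine ⟨EC n K, ?_⟩
    have := EC_mul_self (m := m) n K
    calc (X (topN m n) - EC n K : PlRing K n (m + n))
        = (EC n K * EC n K) * X (topN m n) - EC n K := by rw [this, one_mul]
      _ = _ := by ring
  · rw [Ideal.span_singleton_le_iff_mem, Ideal.mem_span_singleton]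
    refine ⟨EC n K, ?_⟩
    have := EC_mul_self (m := m) n K
    calc (EC n K * X (topN m n) - 1 : PlRing K n (m + n))
        = EC n K * X (topN m n) - EC n K * EC n K := by rw [this]
      _ = _ := by ring

/-- The kernel of `rho ∘ EE`. -/
theorem ker_rho_EE (hn : 0 < n) :
    RingHom.ker ((rho n K r hr).comp (EE K m n)).toRingHom = coneIdeal n K r hr := by
  apply le_antisymm
  · intro f hf
    rw [RingHom.mem_ker] at hf
    have hf' : rho n K r hr (EE K m n f) = 0 := hf
    obtain ⟨N, g, hg, hk⟩ := exists_homogenization n K r hr hn f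
    rw [hf', mul_zero] at hg
    have hgB : g ∈ plIdealB K (vT r hr) (topN m n) := by
      rw [← ker_phiB_eq K hn, RingHom.mem_ker]
      exact Psi_injective_on n K r hr g hg
    rw [span_top_sub_EC] at hk
    have h1 : EC n K ^ N * f ∈ coneIdeal n K r hr := by
      have : EC n K ^ N * f = g - (g - EC n K ^ N * f) := by ring
      rw [this]
      exact Ideal.sub_mem _ (Ideal.mem_sup_left hgB) (Ideal.mem_sup_right hk)
    have h2 : f = EC n K ^ N * (EC n K ^ N * f) := by
      rw [← mul_assoc, EC_pow_mul_self, one_mul]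
    rw [h2]
    exact Ideal.mul_mem_left _ _ h1
  · unfold coneIdeal plIdealB
    refine sup_le (sup_le ?_ ?_) ?_
    · unfold plIdeal
      rw [Ideal.span_le]
      rintro f (⟨i, j, s, _, rfl⟩ | ⟨φ, hφ, rfl⟩)
      · rw [SetLike.mem_coe, RingHom.mem_ker]
        show rho n K r hr (EE K m n (shuffleRel K i j s)) = 0
        have : EE K m n (shuffleRel K i j s) = 0 := evalAt_shuffleRel K _ i j s
        rw [this, map_zero]
      · exact absurd (le_topI _ φ) hφ
    · rw [Ideal.span_le]
      rintro f ⟨θ, hθ, rfl⟩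
      rw [SetLike.mem_coe, RingHom.mem_ker]
      show rho n K r hr (EE K m n (X θ)) = 0
      rw [rho_EE_X n K r hr hn θ, Psi_apply]
      have : phiB K (vT r hr) (topN m n) (X θ) = 0 := by
        unfold phiB
        rw [evalAt_X]
        exact pM_LmatB_of_not_ge K _ _ θ hθ
      rw [this, map_zero, zero_mul]
    · rw [Ideal.span_le]
      rintro f hf
      rw [Set.mem_singleton_iff] at hf
      subst hf
      rw [SetLike.mem_coe, RingHom.mem_ker]
      show rho n K r hr (EE K m n (EC n K * X (topN m n) - 1)) = 0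
      rw [map_sub, map_sub, map_mul, map_mul, rho_EE_EC, rho_EE_X n K r hr hn, map_one, map_one,
        Psi_top_mul n K r hr hn, ← Int.cast_mul, Int.units_coe_mul_self, Int.cast_one, sub_self]

end Groth.Agent.Lib.Helper6.Det

end
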