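import Groth.Agent.Lib.Helper6.Det.Dict2
import Groth.Agent.Lib.Helper6.Grass.Flip

/-!
# Determinantal rings: the dimension count (helper6)
-/

open scoped Classical
set_option linter.unusedSectionVars false
set_option autoImplicit false

noncomputable section

namespace Groth.Agent.Lib.Helper6.Det

open W4bk4grassmannian Groth.Agent.Lib.Helper6.Gr

lemma sum_range_ite_lt (n a x y : ℕ) (h : a ≤ n) :
    ∑ i ∈ Finset.range n, (if i < a then x else y) = a * x + (n - a) * y := by
  induction n with
  | zero =>
    have : a = 0 := by omega
    subst this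
    simp
  | succ n ih =>
    rw [Finset.sum_range_succ]
    by_cases ha : a ≤ n
    · rw [ih ha, if_neg (by omega), Nat.succ_sub ha, Nat.succ_eq_add_one]
      ring
    · have : a = n + 1 := by omega
      subst this
      have h1 : ∑ i ∈ Finset.range n, (if i < n + 1 then x else y) = n * x := by
        rw [Finset.sum_congr rfl (fun i hi => if_pos (by rw [Finset.mem_range] at hi; omega))]
        simp
      rw [h1, if_pos (by omega)]
      simp
      ring

variable {m n : ℕ}

lemma star_vT_sub (r : ℕ) (hr : r ≤ m) (hrn : r ≤ n) (k : Fin n) :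
    ((star (vT (n := n) r hr)).1 k).val - k.val = if k.val < n - r then r else m := by
  rw [star_apply, Fin.val_rev]
  have hk := k.isLt
  by_cases h : (Fin.rev k).val < r
  · have h1 : ((vT (n := n) r hr).1 (Fin.rev k)).val = (Fin.rev k).val := by
      simp only [vT]
      rw [dif_pos h]
    rw [h1, Fin.val_rev] at *
    rw [if_neg (by omega)]
    omega
  · have h1 : ((vT (n := n) r hr).1 (Fin.rev k)).val = m + ((Fin.rev k).val - r) := by
      simp only [vT]
      rw [dif_neg h]
    rw [h1, Fin.val_rev] at *
    rw [if_pos (by omega)]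
    omega

theorem codeg_star_vT (r : ℕ) (hr : r ≤ m) (hrn : r ≤ n) :
    codeg (star (vT (n := n) r hr)) = r * (m + n - r) := by
  unfold codeg
  simp_rw [star_vT_sub r hr hrn]
  rw [Fin.sum_univ_eq_sum_range (fun i => if i < n - r then r else m) n,
    sum_range_ite_lt n (n - r) r m (Nat.sub_le n r)]
  have h1 : n - (n - r) = r := by omega
  rw [h1]
  have h2 : m + n - r = (n - r) + m := by omega
  rw [h2]
  ring

end Groth.Agent.Lib.Helper6.Det

end
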