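import Mathlib.Data.Fintype.Card
import Mathlib.Data.Fin.Basic
import Mathlib.Order.Fin.Basic
import Mathlib.Order.Interval.Finset.Fin
import Mathlib.Data.Finset.Lattice.Fold

/-!
# Dominance of increasing tuples via counting functions (helper6)
-/

open scoped Classical
set_option linter.unusedSectionVars false
set_option autoImplicit false

noncomputable section

namespace Groth.Agent.Lib.Helper6.Det

/-- Number of entries of a tuple below `v`. -/
def cnt {k : ℕ} (a : Fin k → ℕ) (v : ℕ) : ℕ := (Finset.univ.filter fun j => a j < v).card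

lemma cnt_le {k : ℕ} (a : Fin k → ℕ) (v : ℕ) : cnt a v ≤ k := by
  unfold cnt
  calc _ ≤ (Finset.univ : Finset (Fin k)).card := Finset.card_filter_le _ _
    _ = k := by rw [Finset.card_univ, Fintype.card_fin]

lemma cnt_eq_of_forall_lt {k : ℕ} (a : Fin k → ℕ) (v : ℕ) (h : ∀ j, a j < v) : cnt a v = k := by
  unfold cnt
  rw [Finset.filter_true_of_mem (fun j _ => h j), Finset.card_univ, Fintype.card_fin]

lemma cnt_mono {k : ℕ} (a : Fin k → ℕ) {v v' : ℕ} (h : v ≤ v') : cnt a v ≤ cnt a v' := by
  unfold cnt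
  apply Finset.card_le_card
  intro j hj
  simp only [Finset.mem_filter, Finset.mem_univ, true_and] at hj ⊢
  omega

lemma succ_le_cnt_of_lt {k : ℕ} (a : Fin k → ℕ) (ha : StrictMono a) (j : Fin k) (v : ℕ)
    (h : a j < v) : j.val + 1 ≤ cnt a v := by
  unfold cnt
  have hsub : Finset.Iic j ⊆ Finset.univ.filter fun j' => a j' < v := by
    intro j' hj'
    rw [Finset.mem_Iic] at hj'
    simp only [Finset.mem_filter, Finset.mem_univ, true_and]
    exact lt_of_le_of_lt (ha.monotone hj') h
  have := Finset.card_le_card hsub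
  rw [Fin.card_Iic] at this
  exact this

lemma cnt_le_of_le {k : ℕ} (a : Fin k → ℕ) (ha : StrictMono a) (j : Fin k) (v : ℕ)
    (h : v ≤ a j) : cnt a v ≤ j.val := by
  unfold cnt
  have hsub : (Finset.univ.filter fun j' => a j' < v) ⊆ Finset.Iio j := by
    intro j' hj'
    simp only [Finset.mem_filter, Finset.mem_univ, true_and] at hj'
    rw [Finset.mem_Iio]
    by_contra hcon
    rw [not_lt] at hcon
    have := ha.monotone hcon
    omega
  have := Finset.card_le_card hsub
  rw [Fin.card_Iio] at this
  exact this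

/-- Dominance of strictly increasing tuples, possibly of different lengths, via counting. -/
theorem dom_iff_cnt {k k' : ℕ} (a : Fin k → ℕ) (a' : Fin k' → ℕ) (ha : StrictMono a)
    (ha' : StrictMono a') :
    (k ≤ k' ∧ ∀ (j : Fin k) (j' : Fin k'), j.val = j'.val → a' j' ≤ a j) ↔
      ∀ v, cnt a v ≤ cnt a' v := by
  constructor
  · rintro ⟨hk, h⟩ v
    unfold cnt
    apply Finset.card_le_card_of_injOn (fun j => ⟨j.val, lt_of_lt_of_le j.isLt hk⟩)
    · intro j hj
      simp only [Finset.coe_filter, Finset.mem_univ, true_and, Set.mem_ofPred_eq] at hj ⊢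
      exact lt_of_le_of_lt (h j ⟨j.val, lt_of_lt_of_le j.isLt hk⟩ rfl) hj
    · intro j _ j' _ hjj
      simp only [Fin.mk.injEq] at hjj
      exact Fin.ext hjj
  · intro h
    have hk : k ≤ k' := by
      have h1 := h (Finset.univ.sup a + 1)
      rw [cnt_eq_of_forall_lt a _ (fun j => Nat.lt_succ_of_le (Finset.le_sup (f := a) (Finset.mem_univ j)))] at h1
      exact h1.trans (cnt_le a' _)
    refine ⟨hk, ?_⟩
    intro j j' hjj
    by_contra hcon
    rw [not_le] at hcon
    have h1 := succ_le_cnt_of_lt a ha j (a j + 1) (Nat.lt_succ_self _)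
    have h2 := cnt_le_of_le a' ha' j' (a j + 1) hcon
    have h3 := h (a j + 1)
    omega

end Groth.Agent.Lib.Helper6.Det
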