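import Groth.Agent.Lib.Helper6.Det.Count

/-!
# Counting functions of finite subsets of `Fin N` (helper6)
-/

open scoped Classical
set_option linter.unusedSectionVars false
set_option autoImplicit false

noncomputable section

namespace Groth.Agent.Lib.Helper6.Det

/-- Number of elements of a finset of `Fin N` below `v`. -/
def cntS {N : ℕ} (X : Finset (Fin N)) (v : ℕ) : ℕ := (X.filter fun x => x.val < v).card

lemma cntS_image {k N : ℕ} (f : Fin k → Fin N) (hf : Function.Injective f) (v : ℕ) :
    cntS (Finset.univ.image f) v = cnt (fun j => (f j).val) v := by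
  unfold cntS cnt
  rw [Finset.filter_image, Finset.card_image_of_injective _ hf]

lemma cntS_union {N : ℕ} (X Y : Finset (Fin N)) (h : Disjoint X Y) (v : ℕ) :
    cntS (X ∪ Y) v = cntS X v + cntS Y v := by
  unfold cntS
  rw [Finset.filter_union, Finset.card_union_of_disjoint]
  exact Finset.disjoint_filter_filter h

lemma cntS_univ {N : ℕ} (v : ℕ) : cntS (Finset.univ : Finset (Fin N)) v = min v N := by
  unfold cntS
  by_cases hv : v ≤ N
  · rw [min_eq_left hv]
    rcases Nat.eq_or_lt_of_le hv with rfl | hlt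
    · rw [Finset.filter_true_of_mem (fun x _ => x.isLt), Finset.card_univ, Fintype.card_fin]
    · have : (Finset.univ.filter fun x : Fin N => x.val < v) = Finset.Iio ⟨v, hlt⟩ := by
        ext x
        simp only [Finset.mem_filter, Finset.mem_univ, true_and, Finset.mem_Iio, Fin.lt_def]
      rw [this, Fin.card_Iio]
  · rw [not_le] at hv
    rw [min_eq_right (le_of_lt hv)]
    rw [Finset.filter_true_of_mem (fun x _ => lt_trans x.isLt hv), Finset.card_univ, Fintype.card_fin]

lemma cntS_compl {N : ℕ} (X : Finset (Fin N)) (v : ℕ) : cntS Xᶜ v + cntS X v = min v N := by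
  rw [← cntS_univ (N := N) v, add_comm, ← cntS_union X Xᶜ disjoint_compl_right]
  congr 1
  exact Finset.union_compl X

lemma cntS_le_card {N : ℕ} (X : Finset (Fin N)) (v : ℕ) : cntS X v ≤ X.card :=
  Finset.card_filter_le _ _

lemma cntS_eq_card {N : ℕ} (X : Finset (Fin N)) (v : ℕ) (hv : N ≤ v) : cntS X v = X.card := by
  unfold cntS
  rw [Finset.filter_true_of_mem (fun x _ => lt_of_lt_of_le x.isLt hv)]

/-- The reversal embedding `c ↦ m + (n - 1 - c)`. -/
def rv (m n : ℕ) (c : Fin n) : Fin (m + n) := ⟨m + (n - 1 - c.val), by have := c.isLt; omega⟩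

lemma rv_injective (m n : ℕ) : Function.Injective (rv m n) := by
  intro c c' h
  simp only [rv, Fin.mk.injEq] at h
  apply Fin.ext
  have := c.isLt
  have := c'.isLt
  omega

lemma cntS_image_rv_of_le {m n : ℕ} (X : Finset (Fin n)) (v : ℕ) (hv : v ≤ m) :
    cntS (X.image (rv m n)) v = 0 := by
  unfold cntS
  rw [Finset.card_eq_zero, Finset.filter_eq_empty_iff]
  intro x hx
  obtain ⟨c, -, rfl⟩ := Finset.mem_image.mp hx
  simp only [rv]
  omega

lemma cntS_image_rv {m n : ℕ} (X : Finset (Fin n)) (w : ℕ) (hw : w ≤ n) :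
    cntS (X.image (rv m n)) (m + w) + cntS X (n - w) = X.card := by
  unfold cntS
  rw [Finset.filter_image, Finset.card_image_of_injective _ (rv_injective m n)]
  rw [← Finset.card_filter_add_card_filter_not (s := X) (fun c : Fin n => c.val < n - w)]
  rw [add_comm]
  congr 2
  ext c
  simp only [Finset.mem_filter, rv]
  have := c.isLt
  constructor
  · rintro ⟨h1, h2⟩
    exact ⟨h1, by omega⟩
  · rintro ⟨h1, h2⟩
    exact ⟨h1, by omega⟩

end Groth.Agent.Lib.Helper6.Det
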