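import Groth.Agent.Lib.Helper6.Det.Cone
import Groth.Agent.Lib.Helper6.Det.ConeNum
import Groth.Agent.Lib.Helper6.Grass.ACM
import Groth.Agent.Lib.Helper6.Grass.NormalSchubert
import Groth.Agent.Lib.Helper6.GrCM.Dehom

/-!
# Determinantal rings are normal Cohen–Macaulay domains (helper6)

`K[Z] ⧸ I_{r+1}` is the dehomogenization at the bottom Plücker coordinate of the cone over the
Schubert variety `X(w)`, `w = (vT r)*`, of the Grassmannian `G(n, m + n)`.
-/

open scoped Classical
set_option linter.unusedSectionVars false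
set_option autoImplicit false

universe u v

noncomputable section

namespace Groth.Agent.Lib.Helper6.Det

open W4bk4grassmannian Groth.Agent.Lib.Helper6.Gr Groth.Agent.Lib.Helper6.GrCM MvPolynomial LocCoh

variable {m : ℕ} (n : ℕ) (K : Type u) [Field K] (r : ℕ) (hr : r ≤ m)

/-- The kernel of the generic point of the determinantal locus is the determinantal ideal. -/
theorem ker_rho_eq (hn : 0 < n) (hrn : r ≤ n) :
    RingHom.ker (rho n K r hr).toRingHom = CAlgX.minorIdeal (genMatrix K m n) (r + 1) := by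
  apply le_antisymm _ (minorIdeal_le_ker_rho n K r hr hrn (r + 1) (Nat.lt_succ_self r))
  intro f hf
  rw [RingHom.mem_ker] at hf
  have hf' : rho n K r hr f = 0 := hf
  have hspan := span_quot K (m := m) (n := n) (r + 1)
  have hmem : Ideal.Quotient.mk (CAlgX.minorIdeal (genMatrix K m n) (r + 1)) f ∈
      Submodule.span K (Set.range fun c : StdIdx m n (r + 1 - 1) =>
      Ideal.Quotient.mk (CAlgX.minorIdeal (genMatrix K m n) (r + 1))
        (Finset.univ.prod fun i => minorOf K (c.2.1 i))) := by
    rw [hspan]; trivial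
  rw [Finsupp.mem_span_range_iff_exists_finsupp] at hmem
  obtain ⟨a, ha⟩ := hmem
  set g := a.sum fun c x => x • bitab K c.2.1 with hg
  have hfg : f - g ∈ CAlgX.minorIdeal (genMatrix K m n) (r + 1) := by
    rw [← Ideal.Quotient.eq, ← ha, hg]
    rw [Finsupp.sum, Finsupp.sum, map_sum]
    apply Finset.sum_congr rfl
    intro c _
    rfl
  have hfg2 : rho n K r hr (f - g) = 0 := by
    have := minorIdeal_le_ker_rho n K r hr hrn (r + 1) (Nat.lt_succ_self r) hfg
    rwa [RingHom.mem_ker] at this
  have hrho : rho n K r hr g = 0 := by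
    rw [map_sub, hf', zero_sub, neg_eq_zero] at hfg2
    exact hfg2
  have hLI := linearIndependent_rho_bitab n K r hr hn
  rw [linearIndependent_iff] at hLI
  have e : (r + 1 - 1) = r := by omega
  have ha0 : a = 0 := by
    revert a
    rw [e]
    intro a ha g hg hfg hfg2 hrho
    apply hLI
    rw [Finsupp.linearCombination_apply]
    rw [hg, map_finsuppSum] at hrho
    simp only [map_smul] at hrho
    exact hrho
  have : g = 0 := by rw [hg, ha0, Finsupp.sum_zero_index]
  rw [this, sub_zero] at hfg
  exact hfg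

/-- The Schubert index. -/
abbrev wS : Idx n (m + n) := star (vT (n := n) r hr)

/-- The bottom index. -/
abbrev iS (m n : ℕ) : Idx n (m + n) := star (topN m n)

/-- The comorphism from the Plücker ring to the determinantal ring, twisted by the flip. -/
def FF : PlRing K n (m + n) →+*
    (MvPolynomial (Fin m × Fin n) K ⧸ CAlgX.minorIdeal (genMatrix K m n) (r + 1)) :=
  (Ideal.Quotient.mk (CAlgX.minorIdeal (genMatrix K m n) (r + 1))).comp
    ((EE K m n).toRingHom.comp (sigmaHom K).toRingHom)

lemma FF_apply (f : PlRing K n (m + n)) :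
    FF n K r f = Ideal.Quotient.mk (CAlgX.minorIdeal (genMatrix K m n) (r + 1))
      (EE K m n (sigmaHom K f)) := rfl

theorem FF_surjective : Function.Surjective (FF (m := m) n K r) := by
  intro y
  obtain ⟨z, rfl⟩ := Ideal.Quotient.mk_surjective y
  obtain ⟨f, rfl⟩ := EE_surjective K z
  exact ⟨sigmaHom K f, by rw [FF_apply, sigmaHom_sigmaHom]⟩

variable [Infinite K]

lemma sigmaHom_EC :
    sigmaHom K (EC (m := m) n K) = EC n K := by
  unfold EC
  rw [← MvPolynomial.algebraMap_eq, AlgHom.commutes]

theorem ker_FF (hn : 0 < n) (hrn : r ≤ n) :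
    RingHom.ker (FF (m := m) n K r) =
      schubertVanishing K n (m + n) (wS n r hr) ⊔
        Ideal.span {(X (iS m n) - 1 : PlRing K n (m + n))} := by
  have hEC : (C (((eps n : ℤˣ) : ℤ) : K) : PlRing K n (m + n)) = EC n K := rfl
  have hA : schubertVanishing K n (m + n) (wS n r hr) ⊔
      Ideal.span {(X (iS m n) - 1 : PlRing K n (m + n))} ≤
      (coneIdeal n K r hr).comap (sigmaHom K).toRingHom := by
    apply sup_le
    · rw [schubertVanishing_eq_plIdeal K hn]
      intro g hg
      rw [Ideal.mem_comap]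
      exact Ideal.mem_sup_left (sigmaHom_mem_plIdealB K hn (Nat.le_add_left n m) (vT r hr) g hg)
    · rw [Ideal.span_le]
      intro g hg
      rw [Set.mem_singleton_iff] at hg
      subst hg
      rw [SetLike.mem_coe, Ideal.mem_comap]
      show sigmaHom K (X (iS m n) - 1) ∈ _
      rw [map_sub, map_one, sigmaHom_X, star_star, hEC]
      exact Ideal.mem_sup_right (Ideal.subset_span rfl)
  have hB : coneIdeal n K r hr ≤
      (schubertVanishing K n (m + n) (wS n r hr) ⊔
        Ideal.span {(X (iS m n) - 1 : PlRing K n (m + n))}).comap (sigmaHom K).toRingHom := by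
    unfold coneIdeal
    apply sup_le
    · intro g hg
      rw [Ideal.mem_comap]
      apply Ideal.mem_sup_left
      rw [schubertVanishing_eq_plIdeal K hn]
      exact sigmaHom_mem_plIdeal K hn (Nat.le_add_left n m) (vT r hr) g hg
    · rw [Ideal.span_le]
      intro g hg
      rw [Set.mem_singleton_iff] at hg
      subst hg
      rw [SetLike.mem_coe, Ideal.mem_comap]
      show sigmaHom K (EC n K * X (topN m n) - 1) ∈ _
      rw [map_sub, map_one, map_mul, sigmaHom_EC, sigmaHom_X, hEC, ← mul_assoc, EC_mul_self, one_mul]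
      exact Ideal.mem_sup_right (Ideal.subset_span rfl)
  ext f
  rw [RingHom.mem_ker, FF_apply, Ideal.Quotient.eq_zero_iff_mem, ← ker_rho_eq n K r hr hn hrn,
    RingHom.mem_ker]
  have h1 : (rho n K r hr).toRingHom (EE K m n (sigmaHom K f)) = 0 ↔
      sigmaHom K f ∈ coneIdeal n K r hr := by
    rw [← ker_rho_EE n K r hr hn, RingHom.mem_ker]
    rfl
  rw [h1]
  constructor
  · intro h
    have := hB h
    rw [Ideal.mem_comap] at this
    have h2 : (sigmaHom K).toRingHom (sigmaHom K f) = f := sigmaHom_sigmaHom K f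
    rwa [h2] at this
  · intro h
    exact hA h

set_option backward.isDefEq.respectTransparency false in
include hr in
/-- **Determinantal rings are normal Cohen–Macaulay domains of dimension `r (m + n - r)`.** -/
theorem determinantal_main (hm : 0 < m) (hn : 0 < n) (hrn : r ≤ n) :
    IsDomain (MvPolynomial (Fin m × Fin n) K ⧸ CAlgX.minorIdeal (genMatrix K m n) (r + 1)) ∧
    IsIntegrallyClosed
      (MvPolynomial (Fin m × Fin n) K ⧸ CAlgX.minorIdeal (genMatrix K m n) (r + 1)) ∧
    IsCohenMacaulayRing
      (MvPolynomial (Fin m × Fin n) K ⧸ CAlgX.minorIdeal (genMatrix K m n) (r + 1)) ∧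
    ringKrullDim (MvPolynomial (Fin m × Fin n) K ⧸ CAlgX.minorIdeal (genMatrix K m n) (r + 1)) =
      ((r * (m + n - r) : ℕ) : WithBot ℕ∞) := by
  have hdn : n < m + n := by omega
  haveI hprime : (CAlgX.minorIdeal (genMatrix K m n) (r + 1)).IsPrime := by
    rw [← ker_rho_eq n K r hr hn hrn]
    exact RingHom.ker_isPrime _
  haveI hAdom : IsDomain
      (MvPolynomial (Fin m × Fin n) K ⧸ CAlgX.minorIdeal (genMatrix K m n) (r + 1)) :=
    Ideal.Quotient.isDomain _
  obtain ⟨hRdom, hRnorm⟩ := schubert_isDomain_and_isIntegrallyClosed K hn hdn (wS n r hr)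
  haveI := hRdom
  haveI := hRnorm
  have hRcm := isCohenMacaulayRing_schubert K hn hdn (wS n r hr)
  have hRdim := dim_schubert K hn hdn (wS n r hr)
  have hmapspan : (Ideal.span {(X (iS m n) - 1 : PlRing K n (m + n))}).map
      (Ideal.Quotient.mk (schubertVanishing K n (m + n) (wS n r hr))) =
      Ideal.span {Ideal.Quotient.mk (schubertVanishing K n (m + n) (wS n r hr))
        (X (iS m n) - 1)} := by
    rw [Ideal.map_span, Set.image_singleton]
  let e : ((PlRing K n (m + n) ⧸ schubertVanishing K n (m + n) (wS n r hr)) ⧸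
      Ideal.span {Ideal.Quotient.mk (schubertVanishing K n (m + n) (wS n r hr))
        (X (iS m n) - 1)}) ≃+*
      (MvPolynomial (Fin m × Fin n) K ⧸ CAlgX.minorIdeal (genMatrix K m n) (r + 1)) :=
    (((Ideal.quotEquivOfEq hmapspan.symm).trans
      (DoubleQuot.quotQuotEquivQuotSup (schubertVanishing K n (m + n) (wS n r hr))
        (Ideal.span {(X (iS m n) - 1 : PlRing K n (m + n))}))).trans
      (Ideal.quotEquivOfEq (ker_FF n K r hr hn hrn).symm)).trans
      (RingHom.quotientKerEquivOfSurjective (FF_surjective n K r))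
  haveI hQdom : IsDomain ((PlRing K n (m + n) ⧸ schubertVanishing K n (m + n) (wS n r hr)) ⧸
      Ideal.span {Ideal.Quotient.mk (schubertVanishing K n (m + n) (wS n r hr))
        (X (iS m n) - 1)}) := e.toMulEquiv.isDomain _
  have hs : Ideal.Quotient.mk (schubertVanishing K n (m + n) (wS n r hr)) (X (iS m n)) ≠ 0 := by
    intro h
    rw [Ideal.Quotient.eq_zero_iff_mem] at h
    have h1 : (1 : PlRing K n (m + n)) ∈ RingHom.ker (FF (m := m) n K r) := by
      rw [ker_FF n K r hr hn hrn]
      have h2 : (X (iS m n) - (X (iS m n) - 1) : PlRing K n (m + n)) ∈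
          schubertVanishing K n (m + n) (wS n r hr) ⊔
            Ideal.span {(X (iS m n) - 1 : PlRing K n (m + n))} :=
        Ideal.sub_mem _ (Ideal.mem_sup_left h) (Ideal.mem_sup_right (Ideal.subset_span rfl))
      have h3 : (X (iS m n) - (X (iS m n) - 1) : PlRing K n (m + n)) = 1 := by ring
      rwa [h3] at h2
    rw [RingHom.mem_ker, map_one] at h1
    exact one_ne_zero h1
  have hx' : Ideal.Quotient.mk (schubertVanishing K n (m + n) (wS n r hr)) (X (iS m n) - 1) ≠ 0 := by
    intro h
    rw [Ideal.Quotient.eq_zero_iff_mem] at h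
    have hle := (homI_schubert K hn (wS n r hr)).le_irr (schubert_ne_top K hn (wS n r hr))
    have h2 := hle h
    rw [mem_irr] at h2
    have h3 : constantCoeff (X (iS m n) - 1 : PlRing K n (m + n)) = 0 := h2
    rw [map_sub, map_one, constantCoeff_X, zero_sub, neg_eq_zero] at h3
    exact one_ne_zero h3
  haveI hqprime : (Ideal.span {Ideal.Quotient.mk (schubertVanishing K n (m + n) (wS n r hr))
      (X (iS m n) - 1)}).IsPrime := (Ideal.Quotient.isDomain_iff_prime _).mp hQdom
  have hQcm := isCohenMacaulayRing_quotient_span_singleton hRcm _ hx'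
  have hJ : ∃ T : Set (PlRing K n (m + n)), (∀ f ∈ T, ∃ k : ℕ, f.IsHomogeneous k) ∧
      schubertVanishing K n (m + n) (wS n r hr) = Ideal.span T := by
    refine ⟨_, ?_, schubertVanishing_eq_plIdeal K hn (wS n r hr)⟩
    rintro f (⟨i, j, s, _, rfl⟩ | ⟨φ, _, rfl⟩)
    · exact ⟨2, isHomogeneous_shuffleRel K i j s⟩
    · exact ⟨1, isHomogeneous_X K φ⟩
  haveI hQnorm := isIntegrallyClosed_dehom (schubertVanishing K n (m + n) (wS n r hr)) (iS m n) hJ hs
  have hQdim := ringKrullDim_quotient_span_singleton K
    (PlRing K n (m + n) ⧸ schubertVanishing K n (m + n) (wS n r hr)) _ hx' (codeg (wS n r hr)) hRdim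
  refine ⟨hAdom, IsIntegrallyClosed.of_equiv
    (R := (PlRing K n (m + n) ⧸ schubertVanishing K n (m + n) (wS n r hr)) ⧸
      Ideal.span {Ideal.Quotient.mk (schubertVanishing K n (m + n) (wS n r hr))
        (X (iS m n) - 1)}) e, isCohenMacaulayRing_of_ringEquiv e hQcm, ?_⟩
  rw [← ringKrullDim_eq_of_ringEquiv
    (R := (PlRing K n (m + n) ⧸ schubertVanishing K n (m + n) (wS n r hr)) ⧸
      Ideal.span {Ideal.Quotient.mk (schubertVanishing K n (m + n) (wS n r hr))
        (X (iS m n) - 1)}) e, hQdim, codeg_star_vT r hr hrn]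

end Groth.Agent.Lib.Helper6.Det

end
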