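import Groth.Agent.Lib.Helper6.Det.CountS
import Groth.Agent.Lib.Helper6.Grass.Quadric2
import Groth.Agent.Lib.Helper6.Grass.Quad

/-!
# Determinantal varieties: dictionary between minors and Plücker indices (helper6)

A minor `[A | B]` of an `m × n` matrix `Z` corresponds to the Plücker index of the
`(m + n) × n` matrix `[Z ; J]` (`J` the antidiagonal identity) with rows `A` of `Z` and the
rows `m + (n - 1 - c)`, `c ∉ B`.
-/

open scoped Classical
set_option linter.unusedSectionVars false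
set_option autoImplicit false

universe u v

noncomputable section

namespace Groth.Agent.Lib.Helper6.Det

open W4bk4grassmannian Groth.Agent.Lib.Helper6.Gr

variable {m n : ℕ}

/-- Row indices of a minor. -/
abbrev rowsOf (M : MinorIdx m n) : Idx (M.1 + 1) m := M.2.1

/-- Column indices of a minor. -/
abbrev colsOf (M : MinorIdx m n) : Idx (M.1 + 1) n := M.2.2

lemma size_le_m (M : MinorIdx m n) : M.1 + 1 ≤ m := by
  have := Fintype.card_le_of_injective _ (rowsOf M).2.injective
  simpa using this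

lemma size_le_n (M : MinorIdx m n) : M.1 + 1 ≤ n := by
  have := Fintype.card_le_of_injective _ (colsOf M).2.injective
  simpa using this

/-- The complementary columns. -/
def Bc (M : MinorIdx m n) : Finset (Fin n) := (Finset.univ.image (colsOf M).1)ᶜ

lemma card_Bc (M : MinorIdx m n) : (Bc M).card = n - (M.1 + 1) := by
  unfold Bc
  rw [Finset.card_compl, card_image_of_inj _ (colsOf M).2.injective, Fintype.card_fin]

/-- Increasing enumeration of the complementary columns. -/
def bc (M : MinorIdx m n) : Fin (n - (M.1 + 1)) → Fin n := (Bc M).orderEmbOfFin (card_Bc M)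

lemma bc_strictMono (M : MinorIdx m n) : StrictMono (bc M) := ((Bc M).orderEmbOfFin (card_Bc M)).strictMono

lemma bc_mem (M : MinorIdx m n) (l : Fin (n - (M.1 + 1))) : bc M l ∈ Bc M :=
  Finset.orderEmbOfFin_mem _ _ _

lemma exists_bc_eq (M : MinorIdx m n) (c : Fin n) (hc : c ∈ Bc M) : ∃ l, bc M l = c := by
  have hr := Finset.range_orderEmbOfFin (Bc M) (card_Bc M)
  have : c ∈ ((Bc M : Finset (Fin n)) : Set (Fin n)) := hc
  rw [← hr] at this
  exact this

/-- The Plücker index of a minor, as a function. -/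
def PhiF (M : MinorIdx m n) (p : Fin n) : Fin (m + n) :=
  if h : p.val < M.1 + 1 then ⟨((rowsOf M).1 ⟨p.val, h⟩).val, by
    have := ((rowsOf M).1 ⟨p.val, h⟩).isLt; omega⟩
  else rv m n (bc M ⟨n - 1 - p.val, by have := p.isLt; omega⟩)

lemma PhiF_lt (M : MinorIdx m n) (p : Fin n) (h : p.val < M.1 + 1) : (PhiF M p).val < m := by
  unfold PhiF
  rw [dif_pos h]
  exact ((rowsOf M).1 ⟨p.val, h⟩).isLt

lemma PhiF_ge (M : MinorIdx m n) (p : Fin n) (h : ¬ p.val < M.1 + 1) : m ≤ (PhiF M p).val := by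
  unfold PhiF
  rw [dif_neg h]
  simp only [rv]
  omega

lemma PhiF_strictMono (M : MinorIdx m n) : StrictMono (PhiF M) := by
  intro p p' hpp
  have hpp' : p.val < p'.val := hpp
  rw [Fin.lt_def]
  by_cases h : p.val < M.1 + 1
  · by_cases h' : p'.val < M.1 + 1
    · unfold PhiF
      rw [dif_pos h, dif_pos h']
      have : (rowsOf M).1 ⟨p.val, h⟩ < (rowsOf M).1 ⟨p'.val, h'⟩ := (rowsOf M).2 (by rw [Fin.lt_def]; exact hpp')
      exact this
    · exact lt_of_lt_of_le (PhiF_lt M p h) (PhiF_ge M p' h')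
  · have h' : ¬ p'.val < M.1 + 1 := by omega
    unfold PhiF
    rw [dif_neg h, dif_neg h']
    have hlt : bc M ⟨n - 1 - p'.val, by have := p'.isLt; omega⟩ <
        bc M ⟨n - 1 - p.val, by have := p.isLt; omega⟩ := by
      apply bc_strictMono
      rw [Fin.lt_def]
      have := p'.isLt
      simp only
      omega
    have hlt' : (bc M ⟨n - 1 - p'.val, by have := p'.isLt; omega⟩).val <
        (bc M ⟨n - 1 - p.val, by have := p.isLt; omega⟩).val := hlt
    have := (bc M ⟨n - 1 - p.val, by have := p.isLt; omega⟩).isLt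
    simp only [rv]
    omega

/-- The Plücker index of a minor. -/
def Phi (M : MinorIdx m n) : Idx n (m + n) := ⟨PhiF M, PhiF_strictMono M⟩

/-- The embedding of row indices. -/
def rowEmb (M : MinorIdx m n) (j : Fin (M.1 + 1)) : Fin (m + n) :=
  ⟨((rowsOf M).1 j).val, by have := ((rowsOf M).1 j).isLt; omega⟩

lemma rowEmb_injective (M : MinorIdx m n) : Function.Injective (rowEmb M) := by
  intro j j' h
  simp only [rowEmb, Fin.mk.injEq] at h
  exact (rowsOf M).2.injective (Fin.ext h)

lemma image_Phi (M : MinorIdx m n) :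
    Finset.univ.image (Phi M).1 = Finset.univ.image (rowEmb M) ∪ (Bc M).image (rv m n) := by
  ext x
  simp only [Finset.mem_image, Finset.mem_univ, true_and, Finset.mem_union]
  constructor
  · rintro ⟨p, rfl⟩
    by_cases h : p.val < M.1 + 1
    · left
      refine ⟨⟨p.val, h⟩, ?_⟩
      show rowEmb M ⟨p.val, h⟩ = PhiF M p
      unfold PhiF rowEmb
      rw [dif_pos h]
    · right
      refine ⟨bc M ⟨n - 1 - p.val, by have := p.isLt; omega⟩, bc_mem M _, ?_⟩
      show _ = PhiF M p
      unfold PhiF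
      rw [dif_neg h]
  · rintro (⟨j, rfl⟩ | ⟨c, hc, rfl⟩)
    · refine ⟨⟨j.val, lt_of_lt_of_le j.isLt (size_le_n M)⟩, ?_⟩
      show PhiF M _ = rowEmb M j
      unfold PhiF rowEmb
      rw [dif_pos j.isLt]
    · obtain ⟨l, rfl⟩ := exists_bc_eq M c hc
      have hl := l.isLt
      refine ⟨⟨n - 1 - l.val, by omega⟩, ?_⟩
      show PhiF M _ = _
      unfold PhiF
      rw [dif_neg (by simp only; omega)]
      congr 2
      apply Fin.ext
      simp only
      omega

/-- Counting function of a Plücker index. -/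
def cntI {d N : ℕ} (θ : Idx d N) (v : ℕ) : ℕ := cnt (fun p => (θ.1 p).val) v

lemma idx_le_iff_cnt {d N : ℕ} (θ' θ : Idx d N) : θ' ≤ θ ↔ ∀ v, cntI θ v ≤ cntI θ' v := by
  unfold cntI
  rw [← dom_iff_cnt (fun p => (θ.1 p).val) (fun p => (θ'.1 p).val) θ.2 θ'.2]
  constructor
  · intro h
    refine ⟨le_refl _, ?_⟩
    intro j j' hjj
    have : j = j' := Fin.ext hjj
    rw [this]
    exact h j'
  · rintro ⟨-, h⟩ p
    exact h p p rfl

lemma cntI_eq_cntS {d N : ℕ} (θ : Idx d N) (v : ℕ) : cntI θ v = cntS (Finset.univ.image θ.1) v :=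
  (cntS_image θ.1 θ.2.injective v).symm

/-- Counting functions of rows and columns of a minor. -/
def cntA (M : MinorIdx m n) (v : ℕ) : ℕ := cnt (fun j => ((rowsOf M).1 j).val) v

def cntB (M : MinorIdx m n) (v : ℕ) : ℕ := cnt (fun j => ((colsOf M).1 j).val) v

lemma disjoint_rows_rv (M : MinorIdx m n) :
    Disjoint (Finset.univ.image (rowEmb M)) ((Bc M).image (rv m n)) := by
  rw [Finset.disjoint_left]
  intro x hx hx'
  obtain ⟨j, -, rfl⟩ := Finset.mem_image.mp hx
  obtain ⟨c, -, hc⟩ := Finset.mem_image.mp hx'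
  have h1 : (rowEmb M j).val < m := ((rowsOf M).1 j).isLt
  rw [← hc] at h1
  simp only [rv] at h1
  omega

lemma cntI_Phi_of_le (M : MinorIdx m n) (v : ℕ) (hv : v ≤ m) : cntI (Phi M) v = cntA M v := by
  rw [cntI_eq_cntS, image_Phi, cntS_union _ _ (disjoint_rows_rv M), cntS_image_rv_of_le _ _ hv, add_zero,
    cntS_image _ (rowEmb_injective M)]
  rfl

lemma cntA_of_ge (M : MinorIdx m n) (v : ℕ) (hv : m ≤ v) : cntA M v = M.1 + 1 := by
  unfold cntA
  apply cnt_eq_of_forall_lt
  intro j
  exact lt_of_lt_of_le ((rowsOf M).1 j).isLt hv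

lemma cntB_of_ge (M : MinorIdx m n) (v : ℕ) (hv : n ≤ v) : cntB M v = M.1 + 1 := by
  unfold cntB
  apply cnt_eq_of_forall_lt
  intro j
  exact lt_of_lt_of_le ((colsOf M).1 j).isLt hv

lemma cntI_Phi_add (M : MinorIdx m n) (w : ℕ) (hw : w ≤ n) :
    cntI (Phi M) (m + w) = w + cntB M (n - w) := by
  rw [cntI_eq_cntS, image_Phi, cntS_union _ _ (disjoint_rows_rv M), cntS_image _ (rowEmb_injective M)]
  have h1 : cnt (fun j => (rowEmb M j).val) (m + w) = M.1 + 1 :=
    cntA_of_ge M (m + w) (Nat.le_add_right _ _)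
  have h2 := cntS_image_rv (m := m) (Bc M) w hw
  have h3 := cntS_compl (Finset.univ.image (colsOf M).1) (n - w)
  have h4 : cntS (Finset.univ.image (colsOf M).1) (n - w) = cntB M (n - w) :=
    cntS_image _ (colsOf M).2.injective _
  have h5 := card_Bc M
  have h6 := size_le_n M
  have h7 : cntB M (n - w) ≤ M.1 + 1 := cnt_le _ _
  rw [h1]
  have hBc : Bc M = (Finset.univ.image (colsOf M).1)ᶜ := rfl
  rw [← hBc] at h3
  rw [h4] at h3
  rw [min_eq_left (Nat.sub_le _ _)] at h3
  omega

/-- `MinorGE` in terms of counting functions. -/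
lemma minorGE_iff_cnt (M M' : MinorIdx m n) :
    MinorGE M M' ↔ (∀ v, cntA M v ≤ cntA M' v) ∧ ∀ v, cntB M v ≤ cntB M' v := by
  unfold cntA cntB
  rw [← dom_iff_cnt _ _ (rowsOf M).2 (rowsOf M').2, ← dom_iff_cnt _ _ (colsOf M).2 (colsOf M').2]
  unfold MinorGE
  constructor
  · rintro ⟨h1, h2⟩
    exact ⟨⟨by omega, fun j j' hjj => (h2 j j' hjj).1⟩, ⟨by omega, fun j j' hjj => (h2 j j' hjj).2⟩⟩
  · rintro ⟨⟨h1, h2⟩, ⟨-, h3⟩⟩
    exact ⟨by omega, fun j j' hjj => ⟨h2 j j' hjj, h3 j j' hjj⟩⟩

/-- The dictionary is order reversing-compatible: `Φ M' ≤ Φ M ↔ M ⪰ M'`. -/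
theorem Phi_le_iff (M M' : MinorIdx m n) : Phi M' ≤ Phi M ↔ MinorGE M M' := by
  rw [idx_le_iff_cnt, minorGE_iff_cnt]
  constructor
  · intro h
    have hsize : M.1 + 1 ≤ M'.1 + 1 := by
      have := h m
      rw [cntI_Phi_of_le M m le_rfl, cntI_Phi_of_le M' m le_rfl, cntA_of_ge M m le_rfl,
        cntA_of_ge M' m le_rfl] at this
      exact this
    constructor
    · intro v
      by_cases hv : v ≤ m
      · have := h v
        rw [cntI_Phi_of_le M v hv, cntI_Phi_of_le M' v hv] at this
        exact this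
      · rw [cntA_of_ge M v (by omega), cntA_of_ge M' v (by omega)]
        exact hsize
    · intro v
      by_cases hv : v ≤ n
      · have := h (m + (n - v))
        rw [cntI_Phi_add M (n - v) (Nat.sub_le _ _), cntI_Phi_add M' (n - v) (Nat.sub_le _ _)] at this
        have e : n - (n - v) = v := by omega
        rw [e] at this
        omega
      · rw [cntB_of_ge M v (by omega), cntB_of_ge M' v (by omega)]
        exact hsize
  · rintro ⟨hA, hB⟩ v
    by_cases hv : v ≤ m
    · rw [cntI_Phi_of_le M v hv, cntI_Phi_of_le M' v hv]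
      exact hA v
    · by_cases hv2 : v ≤ m + n
      · obtain ⟨w, rfl⟩ : ∃ w, v = m + w := ⟨v - m, by omega⟩
        rw [cntI_Phi_add M w (by omega), cntI_Phi_add M' w (by omega)]
        have := hB (n - w)
        omega
      · unfold cntI
        rw [cnt_eq_of_forall_lt _ _ (fun p => by have := ((Phi M).1 p).isLt; omega),
          cnt_eq_of_forall_lt _ _ (fun p => by have := ((Phi M').1 p).isLt; omega)]

end Groth.Agent.Lib.Helper6.Det
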