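import Groth.Agent.Lib.Helper6.Det.Dict

/-!
# Determinantal varieties: the dictionary is a bijection onto the non-top indices (helper6)
-/

open scoped Classical
set_option linter.unusedSectionVars false
set_option autoImplicit false

universe u v

noncomputable section

namespace Groth.Agent.Lib.Helper6.Det

open W4bk4grassmannian Groth.Agent.Lib.Helper6.Gr

variable {m n : ℕ}

theorem Phi_injective : Function.Injective (Phi (m := m) (n := n)) := by
  intro M M' h
  have h1 : MinorGE M M' := (Phi_le_iff M M').mp (by rw [h])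
  have h2 : MinorGE M' M := (Phi_le_iff M' M).mp (by rw [h])
  obtain ⟨s, A, B⟩ := M
  obtain ⟨s', A', B'⟩ := M'
  have hs : s = s' := le_antisymm h1.1 h2.1
  subst hs
  have hA : A = A' := by
    apply idx_ext
    intro j
    exact le_antisymm ((h2.2 j j rfl).1) ((h1.2 j j rfl).1)
  have hB : B = B' := by
    apply idx_ext
    intro j
    exact le_antisymm ((h2.2 j j rfl).2) ((h1.2 j j rfl).2)
  rw [hA, hB]

/-- The top index of `I(n, m+n)`. -/
abbrev topN (m n : ℕ) : Idx n (m + n) := topI (Nat.le_add_left n m)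

lemma topN_val (p : Fin n) : ((topN m n).1 p).val = m + p.val := by
  simp only [topN, topI]
  omega

lemma cntI_Phi_m (M : MinorIdx m n) : cntI (Phi M) m = M.1 + 1 := by
  rw [cntI_Phi_of_le M m le_rfl, cntA_of_ge M m le_rfl]

lemma cntI_topN : cntI (topN m n) m = 0 := by
  unfold cntI cnt
  rw [Finset.card_eq_zero, Finset.filter_eq_empty_iff]
  intro p _
  show ¬ ((topN m n).1 p).val < m
  rw [topN_val]
  omega

lemma Phi_ne_topN (M : MinorIdx m n) : Phi M ≠ topN m n := by
  intro h
  have h1 := cntI_Phi_m M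
  rw [h, cntI_topN] at h1
  omega

lemma lt_iff_lt_cntI {d N : ℕ} (θ : Idx d N) (v : ℕ) (p : Fin d) :
    (θ.1 p).val < v ↔ p.val < cntI θ v := by
  constructor
  · intro h
    have := succ_le_cnt_of_lt (fun p => (θ.1 p).val) θ.2 p v h
    unfold cntI
    omega
  · intro h
    by_contra hcon
    have := cnt_le_of_le (fun p => (θ.1 p).val) θ.2 p v (by omega)
    unfold cntI at h
    omega

lemma eq_topN_of_cntI (θ : Idx n (m + n)) (h : cntI θ m = 0) : θ = topN m n := by
  apply idx_ext
  intro p
  apply Fin.ext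
  rw [topN_val]
  have h1 : (topN m n).1 p = (topN m n).1 p := rfl
  have hle := le_topI (Nat.le_add_left n m) θ p
  rw [Fin.le_def] at hle
  have h2 := topN_val (m := m) p
  have hn : 0 < n := lt_of_le_of_lt (Nat.zero_le _) p.isLt
  have h0 : ¬ (θ.1 ⟨0, hn⟩).val < m := by
    rw [lt_iff_lt_cntI, h]
    simp
  have := strictMono_gap θ p.val ⟨0, hn⟩ p (by simp)
  simp only [topN] at h2
  omega

/-- Every non-top index comes from a minor. -/
theorem exists_Phi_eq (θ : Idx n (m + n)) (hθ : θ ≠ topN m n) : ∃ M : MinorIdx m n, Phi M = θ := by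
  set k := cntI θ m with hk
  have hk0 : k ≠ 0 := fun h => hθ (eq_topN_of_cntI θ h)
  have hkn : k ≤ n := cnt_le _ _
  obtain ⟨s, hs⟩ : ∃ s, k = s + 1 := ⟨k - 1, by omega⟩
  have hlt : ∀ p : Fin n, (θ.1 p).val < m ↔ p.val < s + 1 := by
    intro p
    rw [lt_iff_lt_cntI, ← hk, hs]
  -- rows
  let A : Idx (s + 1) m := ⟨fun j => ⟨(θ.1 ⟨j.val, by omega⟩).val, (hlt _).mpr j.isLt⟩, by
    intro j j' hjj
    rw [Fin.lt_def]
    simp only
    have : (⟨j.val, by omega⟩ : Fin n) < ⟨j'.val, by omega⟩ := by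
      rw [Fin.lt_def]; exact hjj
    exact θ.2 this⟩
  -- columns of the identity block
  have hn : 0 < n := by omega
  let g : Fin n → Fin n := fun p => ⟨n - 1 - ((θ.1 p).val - m), by omega⟩
  let S : Finset (Fin n) := (Finset.univ.filter fun p : Fin n => ¬ p.val < s + 1).image g
  have hginj : Set.InjOn g ((Finset.univ.filter fun p : Fin n => ¬ p.val < s + 1) : Finset (Fin n)) := by
    intro p hp p' hp' hpp
    rw [Finset.mem_coe, Finset.mem_filter] at hp hp'
    have h1 : ¬ (θ.1 p).val < m := fun h => hp.2 ((hlt p).mp h)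
    have h2 : ¬ (θ.1 p').val < m := fun h => hp'.2 ((hlt p').mp h)
    have h3 := (θ.1 p).isLt
    have h4 := (θ.1 p').isLt
    simp only [g, Fin.mk.injEq] at hpp
    apply θ.2.injective
    apply Fin.ext
    omega
  have hcardF : (Finset.univ.filter fun p : Fin n => ¬ p.val < s + 1).card = n - (s + 1) := by
    have h1 := Finset.card_filter_add_card_filter_not (s := (Finset.univ : Finset (Fin n)))
      (fun p : Fin n => p.val < s + 1)
    have h2 : (Finset.univ.filter fun p : Fin n => p.val < s + 1).card = s + 1 := by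
      have := cntS_univ (N := n) (s + 1)
      unfold cntS at this
      rw [this, min_eq_left (by omega)]
    rw [Finset.card_univ, Fintype.card_fin] at h1
    omega
  have hcardS : S.card = n - (s + 1) := by
    rw [Finset.card_image_of_injOn hginj, hcardF]
  have hcardT : Sᶜ.card = s + 1 := by
    rw [Finset.card_compl, hcardS, Fintype.card_fin]
    omega
  let B : Idx (s + 1) n := ⟨Sᶜ.orderEmbOfFin hcardT, (Sᶜ.orderEmbOfFin hcardT).strictMono⟩
  let M : MinorIdx m n := ⟨s, A, B⟩
  have hBc : Bc M = S := by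
    unfold Bc
    have : Finset.univ.image (colsOf M).1 = Sᶜ := Finset.image_orderEmbOfFin_univ Sᶜ hcardT
    rw [this, compl_compl]
  refine ⟨M, ?_⟩
  apply idx_eq_of_image_eq
  rw [image_Phi, hBc]
  ext x
  simp only [Finset.mem_union, Finset.mem_image, Finset.mem_univ, true_and]
  constructor
  · rintro (⟨j, rfl⟩ | ⟨c, hc, rfl⟩)
    · have hj : j.val < s + 1 := j.isLt
      refine ⟨⟨j.val, by omega⟩, ?_⟩
      apply Fin.ext
      rfl
    · obtain ⟨p, hp, rfl⟩ := Finset.mem_image.mp hc
      rw [Finset.mem_filter] at hp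
      refine ⟨p, ?_⟩
      have h1 : ¬ (θ.1 p).val < m := fun h => hp.2 ((hlt p).mp h)
      have h3 := (θ.1 p).isLt
      apply Fin.ext
      simp only [rv, g]
      omega
  · rintro ⟨p, rfl⟩
    by_cases hp : p.val < s + 1
    · left
      refine ⟨⟨p.val, hp⟩, ?_⟩
      apply Fin.ext
      rfl
    · right
      refine ⟨g p, Finset.mem_image.mpr ⟨p, Finset.mem_filter.mpr ⟨Finset.mem_univ _, hp⟩, rfl⟩, ?_⟩
      have h1 : ¬ (θ.1 p).val < m := fun h => hp ((hlt p).mp h)
      have h3 := (θ.1 p).isLt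
      apply Fin.ext
      simp only [rv, g]
      omega

/-- The bottom index of the determinantal locus `I_{r+1}`: `(0, …, r-1, m, m+1, …)`. -/
def vT (r : ℕ) (hr : r ≤ m) : Idx n (m + n) :=
  ⟨fun p => if h : p.val < r then ⟨p.val, by omega⟩ else ⟨m + (p.val - r), by have := p.isLt; omega⟩, by
    intro p p' hpp
    rw [Fin.lt_def] at hpp ⊢
    dsimp only
    by_cases h : p.val < r
    · by_cases h' : p'.val < r
      · rw [dif_pos h, dif_pos h']
        exact hpp
      · rw [dif_pos h, dif_neg h']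
        simp only
        omega
    · have h' : ¬ p'.val < r := by omega
      rw [dif_neg h, dif_neg h']
      simp only
      omega⟩

lemma vT_le_of_cntI (r : ℕ) (hr : r ≤ m) (θ : Idx n (m + n)) (h : cntI θ m ≤ r) : vT r hr ≤ θ := by
  intro p
  rw [Fin.le_def]
  simp only [vT]
  by_cases h1 : p.val < r
  · rw [dif_pos h1]
    exact idx_val_ge θ p
  · rw [dif_neg h1]
    simp only
    have hrn : r < n := lt_of_le_of_lt (not_lt.mp h1) p.isLt
    have h0 : ¬ (θ.1 ⟨r, hrn⟩).val < m := by
      rw [lt_iff_lt_cntI]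
      simp only
      omega
    have := strictMono_gap θ (p.val - r) ⟨r, hrn⟩ p (by simp only; omega)
    omega

lemma vT_le_Phi (r : ℕ) (hr : r ≤ m) (M : MinorIdx m n) (h : M.1 + 1 ≤ r) : vT r hr ≤ Phi M :=
  vT_le_of_cntI r hr (Phi M) (by rw [cntI_Phi_m]; exact h)

end Groth.Agent.Lib.Helper6.Det

end
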