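import Groth.Agent.Lib.Helper6.Det.GLNum

/-!
# FFT for `GL_n`: reduction to large matrices and the final statement (helper6)
-/

open scoped Classical
set_option linter.unusedSectionVars false
set_option autoImplicit false

universe u

noncomputable section

namespace Groth.Agent.Lib.Helper6.Det

open W4bk4grassmannian Groth.Agent.Lib.Helper6.Gr MvPolynomial

variable (K : Type u) [Field K] (n m q : ℕ)

/-- Polynomials in the pairings are invariant. -/
theorem glTranslate_pairingMap [Infinite K] (A : GL (Fin n) K) (g : MvPolynomial (Fin m × Fin q) K) :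
    glTranslate K n m q A (pairingMap K n m q g) = pairingMap K n m q g := by
  apply MvPolynomial.funext
  intro a
  rw [eval_glTranslate, eval_pairingMap, eval_pairingMap]
  congr 2
  funext p
  unfold yPt
  simp only [Sum.elim_inl, Sum.elim_inr]
  set uu : Fin n → K := fun l => a (Sum.inl (p.1, l)) with huu
  set ww : Fin n → K := fun l => a (Sum.inr (l, p.2)) with hww
  have h1 : (∑ k, (∑ l, a (Sum.inl (p.1, l)) * ((A⁻¹ : GL (Fin n) K) : Matrix (Fin n) (Fin n) K) l k) *
      ∑ l, (A : Matrix (Fin n) (Fin n) K) k l * a (Sum.inr (l, p.2))) =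
      dotProduct (Matrix.vecMul uu ((A⁻¹ : GL (Fin n) K) : Matrix (Fin n) (Fin n) K))
        (Matrix.mulVec (A : Matrix (Fin n) (Fin n) K) ww) := rfl
  have h2 : (∑ k, a (Sum.inl (p.1, k)) * a (Sum.inr (k, p.2))) = dotProduct uu ww := rfl
  rw [h1, h2, ← Matrix.dotProduct_mulVec, Matrix.mulVec_mulVec, ← Matrix.GeneralLinearGroup.coe_mul,
    inv_mul_cancel, Matrix.GeneralLinearGroup.coe_one, Matrix.one_mulVec]

section pad

variable {n m q} {m' q' : ℕ} (hmm : m ≤ m') (hqq : q ≤ q')

/-- Inclusion of the coordinate ring of smaller pairs. -/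
def padIn : PairRing K n m q →ₐ[K] PairRing K n m' q' :=
  MvPolynomial.rename (Sum.map (Prod.map (Fin.castLE hmm) id) (Prod.map id (Fin.castLE hqq)))

/-- Restriction to smaller pairs (extra variables set to zero). -/
def padOut (m q : ℕ) {m' q' : ℕ} : PairRing K n m' q' →ₐ[K] PairRing K n m q :=
  MvPolynomial.aeval (Sum.elim
    (fun p : Fin m' × Fin n => if h : p.1.val < m then X (Sum.inl (⟨p.1.val, h⟩, p.2)) else 0)
    (fun p : Fin n × Fin q' => if h : p.2.val < q then X (Sum.inr (p.1, ⟨p.2.val, h⟩)) else 0))

/-- Restriction of product matrices. -/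
def padY (m q : ℕ) {m' q' : ℕ} : MvPolynomial (Fin m' × Fin q') K →ₐ[K] MvPolynomial (Fin m × Fin q) K :=
  MvPolynomial.aeval (fun p : Fin m' × Fin q' =>
    if h : p.1.val < m ∧ p.2.val < q then X (⟨p.1.val, h.1⟩, ⟨p.2.val, h.2⟩) else 0)

lemma padOut_padIn (f : PairRing K n m q) : padOut K m q (padIn K hmm hqq f) = f := by
  have : (padOut K m q (n := n) (m' := m') (q' := q')).comp (padIn K hmm hqq) = AlgHom.id K _ := by
    apply MvPolynomial.algHom_ext
    rintro (⟨i, k⟩ | ⟨k, j⟩)
    · rw [AlgHom.comp_apply]
      unfold padIn padOut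
      rw [rename_X, aeval_X]
      simp only [Sum.map_inl, Prod.map_apply, id_eq, Sum.elim_inl, Fin.val_castLE]
      rw [dif_pos i.isLt]
      rfl
    · rw [AlgHom.comp_apply]
      unfold padIn padOut
      rw [rename_X, aeval_X]
      simp only [Sum.map_inr, Prod.map_apply, id_eq, Sum.elim_inr, Fin.val_castLE]
      rw [dif_pos j.isLt]
      rfl
  exact DFunLike.congr_fun this f

lemma glTranslate_padIn (A : GL (Fin n) K) (f : PairRing K n m q) :
    glTranslate K n m' q' A (padIn K hmm hqq f) = padIn K hmm hqq (glTranslate K n m q A f) := by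
  have : (glTranslate K n m' q' A).comp (padIn K hmm hqq) =
      (padIn K hmm hqq).comp (glTranslate K n m q A) := by
    apply MvPolynomial.algHom_ext
    rintro (⟨i, k⟩ | ⟨k, j⟩)
    · rw [AlgHom.comp_apply, AlgHom.comp_apply]
      unfold padIn glTranslate
      rw [rename_X, aeval_X, aeval_X]
      simp only [Sum.map_inl, Prod.map_apply, id_eq, Sum.elim_inl, map_sum, map_mul, rename_X,
        rename_C]
    · rw [AlgHom.comp_apply, AlgHom.comp_apply]
      unfold padIn glTranslate
      rw [rename_X, aeval_X, aeval_X]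
      simp only [Sum.map_inr, Prod.map_apply, id_eq, Sum.elim_inr, map_sum, map_mul, rename_X,
        rename_C]
  exact DFunLike.congr_fun this f

lemma padOut_pairingMap (g : MvPolynomial (Fin m' × Fin q') K) :
    padOut K m q (pairingMap K n m' q' g) = pairingMap K n m q (padY K m q g) := by
  have : (padOut K m q (n := n) (m' := m') (q' := q')).comp (pairingMap K n m' q') =
      (pairingMap K n m q).comp (padY K m q) := by
    apply MvPolynomial.algHom_ext
    rintro ⟨i, j⟩
    rw [AlgHom.comp_apply, AlgHom.comp_apply]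
    unfold pairingMap padOut padY
    rw [aeval_X, aeval_X, map_sum]
    simp only [map_mul, aeval_X, Sum.elim_inl, Sum.elim_inr]
    by_cases hi : i.val < m
    · by_cases hj : j.val < q
      · rw [dif_pos ⟨hi, hj⟩, aeval_X]
        apply Finset.sum_congr rfl
        intro k _
        rw [dif_pos hi, dif_pos hj]
      · rw [dif_neg (fun h => hj h.2), map_zero]
        apply Finset.sum_eq_zero
        intro k _
        rw [dif_neg hj, mul_zero]
    · rw [dif_neg (fun h => hi h.1), map_zero]
      apply Finset.sum_eq_zero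
      intro k _
      rw [dif_neg hi, zero_mul]
  exact DFunLike.congr_fun this g

end pad

/-- First fundamental theorem of invariant theory for `GL_n` acting on pairs of matrices. -/
theorem fft_GL [Infinite K] (f : PairRing K n m q) :
    (∀ A : GL (Fin n) K, glTranslate K n m q A f = f) ↔ f ∈ (pairingMap K n m q).range := by
  constructor
  · intro hf
    rcases Nat.eq_zero_or_pos n with hn | hn
    · subst hn
      have : IsEmpty ((Fin m × Fin 0) ⊕ (Fin 0 × Fin q)) :=
        ⟨fun x => by
          rcases x with p | p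
          · exact p.2.elim0
          · exact p.1.elim0⟩
      refine ⟨C (coeff 0 f), ?_⟩
      show pairingMap K 0 m q (C (coeff 0 f)) = f
      rw [MvPolynomial.algHom_C]
      exact (MvPolynomial.eq_C_of_isEmpty f).symm
    · obtain ⟨s, rfl⟩ : ∃ s, n = s + 1 := ⟨n - 1, by omega⟩
      have hmm : m ≤ max m (s + 1) := le_max_left _ _
      have hqq : q ≤ max q (s + 1) := le_max_left _ _
      have hm' : s + 1 ≤ max m (s + 1) := le_max_right _ _
      have hq' : s + 1 ≤ max q (s + 1) := le_max_right _ _
      have hinv : ∀ A : GL (Fin (s + 1)) K,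
          glTranslate K (s + 1) (max m (s + 1)) (max q (s + 1)) A (padIn K hmm hqq f) =
            padIn K hmm hqq f := by
        intro A
        rw [glTranslate_padIn, hf A]
      obtain ⟨G, hG⟩ := mem_range_of_invariant K hm' hq' (padIn K hmm hqq f) hinv
      refine ⟨padY K m q G, ?_⟩
      have hG' : pairingMap K (s + 1) (max m (s + 1)) (max q (s + 1)) G = padIn K hmm hqq f := hG
      show pairingMap K (s + 1) m q (padY K m q G) = f
      rw [← padOut_pairingMap, hG', padOut_padIn]
  · rintro ⟨g, rfl⟩ A
    exact glTranslate_pairingMap K n m q A g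

end Groth.Agent.Lib.Helper6.Det

end
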