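import Groth.Agent.Lib.Helper6.Det.GLSat

/-!
# FFT for `GL_n`: an invariant times a power of the leading minor is a polynomial in the pairings (helper6)
-/

open scoped Classical
set_option linter.unusedSectionVars false
set_option autoImplicit false

universe u

noncomputable section

namespace Groth.Agent.Lib.Helper6.Det

open W4bk4grassmannian Groth.Agent.Lib.Helper6.Gr MvPolynomial

variable (K : Type u) [Field K] {m q s : ℕ} (hm : s + 1 ≤ m) (hq : s + 1 ≤ q)

/-- Evaluation after `GL_n`-translation is evaluation at the translated point. -/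
lemma eval_glTranslate (n m q : ℕ) (A : GL (Fin n) K) (a : (Fin m × Fin n) ⊕ (Fin n × Fin q) → K)
    (f : PairRing K n m q) :
    eval a (glTranslate K n m q A f) =
      eval (Sum.elim
        (fun p : Fin m × Fin n => ∑ k, a (Sum.inl (p.1, k)) *
          ((A⁻¹ : GL (Fin n) K) : Matrix (Fin n) (Fin n) K) k p.2)
        (fun p : Fin n × Fin q => ∑ k, (A : Matrix (Fin n) (Fin n) K) p.1 k * a (Sum.inr (k, p.2)))) f := by
  have : (aeval a : PairRing K n m q →ₐ[K] K).comp (glTranslate K n m q A) =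
      aeval (Sum.elim
        (fun p : Fin m × Fin n => ∑ k, a (Sum.inl (p.1, k)) *
          ((A⁻¹ : GL (Fin n) K) : Matrix (Fin n) (Fin n) K) k p.2)
        (fun p : Fin n × Fin q => ∑ k, (A : Matrix (Fin n) (Fin n) K) p.1 k * a (Sum.inr (k, p.2)))) := by
    apply MvPolynomial.algHom_ext
    rintro (p | p)
    · rw [AlgHom.comp_apply]
      unfold glTranslate
      rw [aeval_X, aeval_X, Sum.elim_inl, Sum.elim_inl, map_sum]
      apply Finset.sum_congr rfl
      intro k _
      rw [map_mul, aeval_X, aeval_C]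
      rfl
    · rw [AlgHom.comp_apply]
      unfold glTranslate
      rw [aeval_X, aeval_X, Sum.elim_inr, Sum.elim_inr, map_sum]
      apply Finset.sum_congr rfl
      intro k _
      rw [map_mul, aeval_X, aeval_C]
      rfl
  exact DFunLike.congr_fun this f

/-- The product matrix at a point. -/
def yPt (n m q : ℕ) (a : (Fin m × Fin n) ⊕ (Fin n × Fin q) → K) : Fin m × Fin q → K :=
  fun p => ∑ k, a (Sum.inl (p.1, k)) * a (Sum.inr (k, p.2))

lemma eval_pairingMap (n m q : ℕ) (a : (Fin m × Fin n) ⊕ (Fin n × Fin q) → K)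
    (g : MvPolynomial (Fin m × Fin q) K) :
    eval a (pairingMap K n m q g) = eval (yPt K n m q a) g := by
  have : (aeval a : PairRing K n m q →ₐ[K] K).comp (pairingMap K n m q) =
      aeval (yPt K n m q a) := by
    apply MvPolynomial.algHom_ext
    intro p
    rw [AlgHom.comp_apply]
    unfold pairingMap yPt
    rw [aeval_X, aeval_X, map_sum]
    apply Finset.sum_congr rfl
    intro k _
    rw [map_mul, aeval_X, aeval_X]
  exact DFunLike.congr_fun this g

section num

/-- The leading block of the generic matrix. -/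
def G11 : Matrix (Fin (s + 1)) (Fin (s + 1)) (MvPolynomial (Fin m × Fin q) K) :=
  (genMatrix K m q).submatrix (Fin.castLE hm) (Fin.castLE hq)

lemma det_G11 : (G11 K hm hq).det = minorOf K (Mdel hm hq) := rfl

/-- `δ · U U₁⁻¹` in terms of the product matrix. -/
def UpP : Matrix (Fin m) (Fin (s + 1)) (MvPolynomial (Fin m × Fin q) K) :=
  (genMatrix K m q).submatrix id (Fin.castLE hq) * (G11 K hm hq).adjugate

/-- `U`-degree of a monomial. -/
def eU (mon : (Fin m × Fin (s + 1)) ⊕ (Fin (s + 1) × Fin q) →₀ ℕ) : ℕ :=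
  ∑ p : Fin m × Fin (s + 1), mon (Sum.inl p)

lemma eU_le_totalDegree (f : PairRing K (s + 1) m q)
    (mon : (Fin m × Fin (s + 1)) ⊕ (Fin (s + 1) × Fin q) →₀ ℕ) (hmon : mon ∈ f.support) :
    eU mon ≤ f.totalDegree := by
  refine le_trans ?_ (MvPolynomial.le_totalDegree hmon)
  rw [Finsupp.sum_fintype _ _ (fun _ => rfl), Fintype.sum_sum_type]
  unfold eU
  exact Nat.le_add_right _ _

/-- The numerator. -/
def numP (f : PairRing K (s + 1) m q) : MvPolynomial (Fin m × Fin q) K :=
  ∑ mon ∈ f.support, C (coeff mon f) *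
    minorOf K (Mdel hm hq) ^ (f.totalDegree - eU mon) *
    (∏ p : Fin m × Fin (s + 1), UpP K hm hq p.1 p.2 ^ mon (Sum.inl p)) *
    ∏ p : Fin (s + 1) × Fin q, genMatrix K m q (Fin.castLE hm p.1) p.2 ^ mon (Sum.inr p)

/-- The `U`-matrix of a point. -/
def UPt (a : (Fin m × Fin (s + 1)) ⊕ (Fin (s + 1) × Fin q) → K) : Matrix (Fin m) (Fin (s + 1)) K :=
  Matrix.of fun i k => a (Sum.inl (i, k))

/-- The `W`-matrix of a point. -/
def WPt (a : (Fin m × Fin (s + 1)) ⊕ (Fin (s + 1) × Fin q) → K) : Matrix (Fin (s + 1)) (Fin q) K :=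
  Matrix.of fun k j => a (Sum.inr (k, j))

lemma yPt_eq (a : (Fin m × Fin (s + 1)) ⊕ (Fin (s + 1) × Fin q) → K) (i : Fin m) (j : Fin q) :
    yPt K (s + 1) m q a (i, j) = (UPt K a * WPt K a) i j := by
  rw [Matrix.mul_apply]
  rfl

lemma genMatrix_map_eval (a : (Fin m × Fin (s + 1)) ⊕ (Fin (s + 1) × Fin q) → K) :
    (genMatrix K m q).map (eval (yPt K (s + 1) m q a)) = UPt K a * WPt K a := by
  apply Matrix.ext
  intro i j
  rw [Matrix.map_apply, ← yPt_eq]
  simp only [genMatrix, Matrix.of_apply, eval_X]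

/-- The leading blocks of the point. -/
def U1 (a : (Fin m × Fin (s + 1)) ⊕ (Fin (s + 1) × Fin q) → K) : Matrix (Fin (s + 1)) (Fin (s + 1)) K :=
  (UPt K a).submatrix (Fin.castLE hm) id

def W1 (a : (Fin m × Fin (s + 1)) ⊕ (Fin (s + 1) × Fin q) → K) : Matrix (Fin (s + 1)) (Fin (s + 1)) K :=
  (WPt K a).submatrix id (Fin.castLE hq)

lemma G11_map_eval (a : (Fin m × Fin (s + 1)) ⊕ (Fin (s + 1) × Fin q) → K) :
    (G11 K hm hq).map (eval (yPt K (s + 1) m q a)) = U1 K hm a * W1 K hq a := by
  unfold G11 U1 W1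
  rw [← Matrix.submatrix_mul (UPt K a) (WPt K a) (Fin.castLE hm) id (Fin.castLE hq)
    Function.bijective_id, ← genMatrix_map_eval]
  rfl

lemma eval_minor_Mdel (a : (Fin m × Fin (s + 1)) ⊕ (Fin (s + 1) × Fin q) → K) :
    eval (yPt K (s + 1) m q a) (minorOf K (Mdel hm hq)) = (U1 K hm a).det * (W1 K hq a).det := by
  rw [← det_G11, RingHom.map_det, ← Matrix.det_mul, ← G11_map_eval]
  rfl

lemma eval_UpP (a : (Fin m × Fin (s + 1)) ⊕ (Fin (s + 1) × Fin q) → K)
    (hU : (U1 K hm a).det ≠ 0) (i : Fin m) (k : Fin (s + 1)) :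
    eval (yPt K (s + 1) m q a) (UpP K hm hq i k) =
      ((U1 K hm a).det * (W1 K hq a).det) * (UPt K a * (U1 K hm a)⁻¹) i k := by
  have h1 : (UpP K hm hq).map (eval (yPt K (s + 1) m q a)) =
      (UPt K a * W1 K hq a) * (U1 K hm a * W1 K hq a).adjugate := by
    unfold UpP
    rw [Matrix.map_mul]
    congr 1
    · apply Matrix.ext
      intro i' k'
      rw [Matrix.map_apply, Matrix.submatrix_apply, id_eq]
      have := congrFun (congrFun (genMatrix_map_eval K a) i') (Fin.castLE hq k')
      rw [Matrix.map_apply] at this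
      rw [this, Matrix.mul_apply, Matrix.mul_apply]
      rfl
    · have := RingHom.map_adjugate (eval (yPt K (s + 1) m q a)) (G11 K hm hq)
      rw [RingHom.mapMatrix_apply, RingHom.mapMatrix_apply, G11_map_eval] at this
      exact this
  have h2 : (UPt K a * W1 K hq a) * (U1 K hm a * W1 K hq a).adjugate =
      ((U1 K hm a).det * (W1 K hq a).det) • (UPt K a * (U1 K hm a)⁻¹) := by
    rw [Matrix.adjugate_mul_distrib, Matrix.mul_assoc, ← Matrix.mul_assoc (W1 K hq a),
      Matrix.mul_adjugate, Matrix.smul_mul, Matrix.one_mul, Matrix.mul_smul, Matrix.inv_def,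
      Matrix.mul_smul, smul_smul]
    congr 1
    rw [Ring.inverse_eq_inv']
    field_simp
  have h3 := congrFun (congrFun h1 i) k
  rw [Matrix.map_apply] at h3
  rw [h3, h2, Matrix.smul_apply, smul_eq_mul]

lemma numP_mem (f : PairRing K (s + 1) m q) :
    pairingMap K (s + 1) m q (numP K hm hq f) ∈ (pairingMap K (s + 1) m q).range := ⟨_, rfl⟩

/-- Evaluation of the numerator at the points where the leading minor does not vanish. -/
theorem eval_numP (f : PairRing K (s + 1) m q)
    (hf : ∀ A : GL (Fin (s + 1)) K, glTranslate K (s + 1) m q A f = f)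
    (a : (Fin m × Fin (s + 1)) ⊕ (Fin (s + 1) × Fin q) → K)
    (ha : eval (yPt K (s + 1) m q a) (minorOf K (Mdel hm hq)) ≠ 0) :
    eval (yPt K (s + 1) m q a) (numP K hm hq f) =
      eval (yPt K (s + 1) m q a) (minorOf K (Mdel hm hq)) ^ f.totalDegree * eval a f := by
  set da := eval (yPt K (s + 1) m q a) (minorOf K (Mdel hm hq)) with hda
  have hda' : da = (U1 K hm a).det * (W1 K hq a).det := eval_minor_Mdel K hm hq a
  have hU : (U1 K hm a).det ≠ 0 := by
    intro h0
    apply ha
    rw [hda', h0, zero_mul]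
  set A : GL (Fin (s + 1)) K := Matrix.GeneralLinearGroup.mkOfDetNeZero (U1 K hm a) hU with hA
  have hAcoe : (A : Matrix (Fin (s + 1)) (Fin (s + 1)) K) = U1 K hm a := rfl
  have hAinv : ((A⁻¹ : GL (Fin (s + 1)) K) : Matrix (Fin (s + 1)) (Fin (s + 1)) K) = (U1 K hm a)⁻¹ := by
    rw [Matrix.coe_units_inv, hAcoe]
  have h1 : eval a f = eval (Sum.elim
        (fun p : Fin m × Fin (s + 1) => (UPt K a * (U1 K hm a)⁻¹) p.1 p.2)
        (fun p : Fin (s + 1) × Fin q => yPt K (s + 1) m q a (Fin.castLE hm p.1, p.2))) f := by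
    conv_lhs => rw [← hf A]
    rw [eval_glTranslate]
    have e : (Sum.elim
        (fun p : Fin m × Fin (s + 1) => ∑ k, a (Sum.inl (p.1, k)) *
          ((A⁻¹ : GL (Fin (s + 1)) K) : Matrix (Fin (s + 1)) (Fin (s + 1)) K) k p.2)
        (fun p : Fin (s + 1) × Fin q =>
          ∑ k, (A : Matrix (Fin (s + 1)) (Fin (s + 1)) K) p.1 k * a (Sum.inr (k, p.2)))) =
        (Sum.elim
        (fun p : Fin m × Fin (s + 1) => (UPt K a * (U1 K hm a)⁻¹) p.1 p.2)
        (fun p : Fin (s + 1) × Fin q => yPt K (s + 1) m q a (Fin.castLE hm p.1, p.2))) := by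
      funext x
      rcases x with p | p
      · simp only [Sum.elim_inl]
        rw [hAinv, Matrix.mul_apply]
        rfl
      · simp only [Sum.elim_inr]
        rw [hAcoe]
        rfl
    rw [e]
  rw [h1, eval_eq' _ f]
  unfold numP
  rw [map_sum, Finset.mul_sum]
  apply Finset.sum_congr rfl
  intro mon hmon
  rw [map_mul, map_mul, map_mul, eval_C, map_pow, map_prod, map_prod, Fintype.prod_sum_type]
  simp only [Sum.elim_inl, Sum.elim_inr, map_pow]
  have hUp : ∀ p : Fin m × Fin (s + 1), eval (yPt K (s + 1) m q a) (UpP K hm hq p.1 p.2) =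
      da * (UPt K a * (U1 K hm a)⁻¹) p.1 p.2 := by
    intro p
    rw [eval_UpP K hm hq a hU, ← hda']
  have hG : ∀ p : Fin (s + 1) × Fin q,
      eval (yPt K (s + 1) m q a) (genMatrix K m q (Fin.castLE hm p.1) p.2) =
      yPt K (s + 1) m q a (Fin.castLE hm p.1, p.2) := by
    intro p
    simp only [genMatrix, Matrix.of_apply, eval_X]
  simp_rw [hUp, hG, mul_pow]
  rw [Finset.prod_mul_distrib, Finset.prod_pow_eq_pow_sum]
  have hle := eU_le_totalDegree K f mon hmon
  have hsplit : da ^ f.totalDegree = da ^ (f.totalDegree - eU mon) * da ^ eU mon := by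
    rw [← pow_add, Nat.sub_add_cancel hle]
  rw [hsplit]
  unfold eU
  ring

end num

variable [Infinite K]

/-- An invariant times a power of the leading minor is a polynomial in the pairings. -/
theorem exists_pow_mul_mem (f : PairRing K (s + 1) m q)
    (hf : ∀ A : GL (Fin (s + 1)) K, glTranslate K (s + 1) m q A f = f) :
    pairingMap K (s + 1) m q (minorOf K (Mdel hm hq)) ^ f.totalDegree * f ∈
      (pairingMap K (s + 1) m q).range := by
  set δ := pairingMap K (s + 1) m q (minorOf K (Mdel hm hq)) with hδ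
  have key : (pairingMap K (s + 1) m q (numP K hm hq f) - δ ^ f.totalDegree * f) * δ = 0 := by
    apply MvPolynomial.funext
    intro a
    rw [map_mul, map_zero, map_sub, map_mul, map_pow, hδ, eval_pairingMap, eval_pairingMap]
    by_cases ha : eval (yPt K (s + 1) m q a) (minorOf K (Mdel hm hq)) = 0
    · rw [ha, mul_zero]
    · rw [eval_numP K hm hq f hf a ha, sub_self, zero_mul]
  have h2 := (mul_eq_zero.mp key).resolve_right (pairing_Mdel_ne_zero K hm hq)
  rw [sub_eq_zero] at h2
  rw [← h2]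
  exact ⟨_, rfl⟩

include hm hq in
/-- FFT for `GL_n`, hard direction, when `n ≥ 1` and both matrices are large enough. -/
theorem mem_range_of_invariant (f : PairRing K (s + 1) m q)
    (hf : ∀ A : GL (Fin (s + 1)) K, glTranslate K (s + 1) m q A f = f) :
    f ∈ (pairingMap K (s + 1) m q).range :=
  mem_range_of_pow_mul_mem K hm hq f.totalDegree f (exists_pow_mul_mem K hm hq f hf)

end Groth.Agent.Lib.Helper6.Det

end
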