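import Groth.Agent.Lib.Helper6.Det.RhoLI

/-!
# Second fundamental theorem for `GL_n` (helper6)
-/

open scoped Classical
set_option linter.unusedSectionVars false
set_option autoImplicit false

universe u v

noncomputable section

namespace Groth.Agent.Lib.Helper6.Det

open W4bk4grassmannian Groth.Agent.Lib.Helper6.Gr MvPolynomial

variable (K : Type u) [Field K] (n m q : ℕ)

section factor

variable (r : ℕ) (hr : r ≤ m) (hrq : r ≤ q) (hrn : r ≤ n)

/-- The specialisation of the pair of generic matrices to the factors of the generic rank `≤ r` matrix. -/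
def psiPair : PairRing K n m q →ₐ[K] FrP K m q :=
  MvPolynomial.aeval (Sum.elim
    (fun p : Fin m × Fin n => if h : p.2.val < r then A0 q K r hr hrq p.1 ⟨p.2.val, h⟩ else 0)
    (fun p : Fin n × Fin q => if h : p.1.val < r then B0 q K r hr hrq ⟨p.1.val, h⟩ p.2 else 0))

include hrn in
lemma psiPair_comp : (psiPair K n m q r hr hrq).comp (pairingMap K n m q) = rho q K r hr := by
  apply MvPolynomial.algHom_ext
  rintro ⟨i, j⟩
  rw [AlgHom.comp_apply, rho_X, Y0_eq q K r hr hrq, Matrix.mul_apply]
  unfold pairingMap psiPair
  rw [aeval_X, map_sum]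
  simp only [map_mul, aeval_X, Sum.elim_inl, Sum.elim_inr]
  symm
  apply Fintype.sum_of_injective (Fin.castLE hrn) (Fin.castLE_injective hrn)
  · intro p hp
    have hp' : ¬ p.val < r := by
      intro hcon
      apply hp
      exact ⟨⟨p.val, hcon⟩, Fin.ext rfl⟩
    rw [dif_neg hp', zero_mul]
  · intro k
    have hk : (Fin.castLE hrn k).val < r := k.isLt
    rw [dif_pos hk, dif_pos hk]
    rfl

end factor

lemma eq_C_of_isEmpty' (h : m = 0 ∨ q = 0) (f : MvPolynomial (Fin m × Fin q) K) :
    ∃ a : K, f = C a := by
  have : IsEmpty (Fin m × Fin q) := by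
    rcases h with h | h
    · subst h; exact ⟨fun p => p.1.elim0⟩
    · subst h; exact ⟨fun p => p.2.elim0⟩
  exact ⟨_, MvPolynomial.eq_C_of_isEmpty f⟩

/-- Second fundamental theorem of invariant theory for `GL_n`. -/
theorem ker_pairingMap_eq :
    RingHom.ker (pairingMap K n m q).toRingHom = CAlgX.minorIdeal (genMatrix K m q) (n + 1) := by
  apply le_antisymm _ (minorIdeal_le_ker_pairingMap K n m q (n + 1) (Nat.lt_succ_self n))
  intro f hf
  rw [RingHom.mem_ker] at hf
  have hf' : pairingMap K n m q f = 0 := hf
  by_cases hmq : m = 0 ∨ q = 0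
  · obtain ⟨a, rfl⟩ := eq_C_of_isEmpty' K m q hmq f
    rw [MvPolynomial.algHom_C] at hf'
    have : a = 0 := by
      have h0 := MvPolynomial.C_injective ((Fin m × Fin n) ⊕ (Fin n × Fin q)) K
      apply h0
      rw [map_zero]
      exact hf'
    rw [this, map_zero]
    exact Ideal.zero_mem _
  · push Not at hmq
    have hq : 0 < q := Nat.pos_of_ne_zero hmq.2
    set r := min n (min m q) with hrdef
    have hr : r ≤ m := le_trans (min_le_right _ _) (min_le_left _ _)
    have hrq : r ≤ q := le_trans (min_le_right _ _) (min_le_right _ _)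
    have hrn : r ≤ n := min_le_left _ _
    -- the ideal of `(r+1)`-minors
    have hI : CAlgX.minorIdeal (genMatrix K m q) (r + 1) ≤
        CAlgX.minorIdeal (genMatrix K m q) (n + 1) ⊓ RingHom.ker (pairingMap K n m q).toRingHom := by
      by_cases hcase : n ≤ min m q
      · have : r = n := min_eq_left hcase
        rw [this]
        exact le_inf le_rfl (minorIdeal_le_ker_pairingMap K n m q (n + 1) (Nat.lt_succ_self n))
      · have hrm : r = min m q := min_eq_right (by omega)
        have : CAlgX.minorIdeal (genMatrix K m q) (r + 1) = ⊥ := by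
          apply minorIdeal_eq_bot
          rw [hrm]
          rcases le_total m q with h | h
          · left; rw [min_eq_left h]; omega
          · right; rw [min_eq_right h]; omega
        rw [this]
        exact bot_le
    -- expand `f` in standard bitableaux
    have hspan := span_quot K (m := m) (n := q) (r + 1)
    have hmem : Ideal.Quotient.mk (CAlgX.minorIdeal (genMatrix K m q) (r + 1)) f ∈
        Submodule.span K (Set.range fun c : StdIdx m q (r + 1 - 1) =>
        Ideal.Quotient.mk (CAlgX.minorIdeal (genMatrix K m q) (r + 1))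
          (Finset.univ.prod fun i => minorOf K (c.2.1 i))) := by
      rw [hspan]; trivial
    rw [Finsupp.mem_span_range_iff_exists_finsupp] at hmem
    obtain ⟨a, ha⟩ := hmem
    set g := a.sum fun c x => x • bitab K c.2.1 with hg
    have hfg : f - g ∈ CAlgX.minorIdeal (genMatrix K m q) (r + 1) := by
      rw [← Ideal.Quotient.eq, ← ha, hg]
      rw [Finsupp.sum, Finsupp.sum, map_sum]
      apply Finset.sum_congr rfl
      intro c _
      rfl
    have hfg1 := (hI hfg).1
    have hfg2 : pairingMap K n m q (f - g) = 0 := by
      have := (hI hfg).2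
      rw [SetLike.mem_coe, RingHom.mem_ker] at this
      exact this
    have hg0 : pairingMap K n m q g = 0 := by
      rw [map_sub, hf', zero_sub, neg_eq_zero] at hfg2
      exact hfg2
    have hrho : rho q K r hr g = 0 := by
      rw [← psiPair_comp K n m q r hr hrq hrn, AlgHom.comp_apply, hg0, map_zero]
    have hLI := linearIndependent_rho_bitab q K r hr hq
    rw [linearIndependent_iff] at hLI
    have e : (r + 1 - 1) = r := by omega
    have ha0 : a = 0 := by
      revert a
      rw [e]
      intro a ha g hg hfg hfg1 hfg2 hg0 hrho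
      apply hLI
      rw [Finsupp.linearCombination_apply]
      rw [hg, map_finsuppSum] at hrho
      simp only [map_smul] at hrho
      exact hrho
    have : g = 0 := by rw [hg, ha0, Finsupp.sum_zero_index]
    rw [this, sub_zero] at hfg1
    exact hfg1

end Groth.Agent.Lib.Helper6.Det

end
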