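import Groth.Agent.Lib.Helper6.Det.RhoVLI
import Groth.Agent.Lib.Helper6.Det.SFT

/-!
# FFT for `GL_n`: saturation of the image of the pairing comorphism with respect to the leading minor (helper6)
-/

open scoped Classical
set_option linter.unusedSectionVars false
set_option autoImplicit false

universe u

noncomputable section

namespace Groth.Agent.Lib.Helper6.Det

open W4bk4grassmannian Groth.Agent.Lib.Helper6.Gr MvPolynomial

variable (K : Type u) [Field K] {m q s : ℕ} (hm : s + 1 ≤ m) (hq : s + 1 ≤ q)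

/-- Span statement with the size bound `r` (instead of `t - 1`). -/
theorem span_quot' (m n r : ℕ) :
    Submodule.span K (Set.range fun c : StdIdx m n r =>
        Ideal.Quotient.mk (CAlgX.minorIdeal (genMatrix K m n) (r + 1)) (bitab K c.2.1)) = ⊤ :=
  span_quot K (m := m) (n := n) (r + 1)

/-- The leading minor of size `s + 1`. -/
def Mdel : MinorIdx m q :=
  ⟨s, (⟨Fin.castLE hm, Fin.strictMono_castLE hm⟩, ⟨Fin.castLE hq, Fin.strictMono_castLE hq⟩)⟩

lemma minorGE_Mdel (M : MinorIdx m q) (h : M.1 + 1 ≤ s + 1) : MinorGE M (Mdel hm hq) := by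
  refine ⟨by show M.1 ≤ s; omega, ?_⟩
  intro j j' hjj
  constructor
  · rw [Fin.le_def]
    show (Fin.castLE hm j').val ≤ _
    have := idx_val_ge M.2.1 j
    simp only [Fin.val_castLE]
    omega
  · rw [Fin.le_def]
    show (Fin.castLE hq j').val ≤ _
    have := idx_val_ge M.2.2 j
    simp only [Fin.val_castLE]
    omega

lemma not_le_Phi_Mdel (M : MinorIdx m q) (h : M.1 + 1 ≤ s + 1) (hne : M ≠ Mdel hm hq) :
    ¬ Phi M ≤ Phi (Mdel hm hq) := by
  intro hle
  apply hne
  apply Phi_injective
  apply le_antisymm hle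
  exact (Phi_le_iff M (Mdel hm hq)).mpr (minorGE_Mdel hm hq M h)

/-- The lower bound attached to a bitableau: its last (smallest) index, or the top index. -/
def lowV (c : StdIdx m q (s + 1)) : Idx q (m + q) :=
  if h : c.1 = 0 then topN m q else Phi (c.2.1 ⟨c.1 - 1, by omega⟩)

lemma lowV_le (c : StdIdx m q (s + 1)) (i : Fin c.1) : lowV c ≤ Phi (c.2.1 i) := by
  unfold lowV
  have hi := i.isLt
  rw [dif_neg (by omega)]
  apply antitone_phiChain c
  rw [Fin.le_def]
  simp only
  omega

include hm in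
lemma vT_le_lowV (c : StdIdx m q (s + 1)) : vT (s + 1) hm ≤ lowV c := by
  unfold lowV
  by_cases h : c.1 = 0
  · rw [dif_pos h]; exact le_topI _ _
  · rw [dif_neg h]; exact vT_le_Phi _ _ _ (c.2.2.1 _)

lemma not_lowV_le (c : StdIdx m q (s + 1)) (hc : ∀ i, c.2.1 i ≠ Mdel hm hq) :
    ¬ lowV c ≤ Phi (Mdel hm hq) := by
  unfold lowV
  by_cases h : c.1 = 0
  · rw [dif_pos h]
    intro hle
    exact Phi_ne_topN _ (le_antisymm (le_topI _ _) hle)
  · rw [dif_neg h]
    exact not_le_Phi_Mdel hm hq _ (c.2.2.1 _) (hc _)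

/-- The leading minor of the product matrix is nonzero. -/
lemma pairing_Mdel_ne_zero : pairingMap K (s + 1) m q (minorOf K (Mdel hm hq)) ≠ 0 := by
  intro h0
  have hqpos : 0 < q := by omega
  set v := vT (n := q) (s + 1) hm with hv
  have hcomp := psiPairV_comp K (s + 1) m q v (s + 1) hm (le_refl _) hq (le_refl _)
  have h1 : rhoV q K v (minorOf K (Mdel hm hq)) = 0 := by
    rw [← hcomp, AlgHom.comp_apply, h0, map_zero]
  let c1 : StdIdx m q (s + 1) := ⟨1, fun _ => Mdel hm hq, fun _ => le_refl _, fun i j hij => by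
    exfalso
    rw [Fin.lt_def] at hij
    omega⟩
  have hb : bitab K c1.2.1 = minorOf K (Mdel hm hq) := by
    unfold bitab
    simp [c1]
  have := coeff_eq_zero_of_rhoV q K v hqpos {c1} (fun _ => 1)
    (by rw [Finset.sum_singleton, one_smul, hb, h1]) c1 (Finset.mem_singleton_self _)
    (fun i => vT_le_Phi _ _ _ (c1.2.2.1 i))
  exact one_ne_zero this

/-- Saturation: dividing an element of the image by the leading minor stays in the image. -/
theorem mem_range_of_mul_mem (g : PairRing K (s + 1) m q)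
    (h : pairingMap K (s + 1) m q (minorOf K (Mdel hm hq)) * g ∈ (pairingMap K (s + 1) m q).range) :
    g ∈ (pairingMap K (s + 1) m q).range := by
  set pm := pairingMap K (s + 1) m q with hpm
  set δ := pm (minorOf K (Mdel hm hq)) with hδ
  have hqpos : 0 < q := by omega
  obtain ⟨G, hG⟩ := h
  have hG' : pm G = δ * g := hG
  -- expand `G` in standard bitableaux
  have hmem : Ideal.Quotient.mk (CAlgX.minorIdeal (genMatrix K m q) (s + 1 + 1)) G ∈
      Submodule.span K (Set.range fun c : StdIdx m q (s + 1) =>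
        Ideal.Quotient.mk (CAlgX.minorIdeal (genMatrix K m q) (s + 1 + 1)) (bitab K c.2.1)) := by
    rw [span_quot' K m q (s + 1)]; trivial
  rw [Finsupp.mem_span_range_iff_exists_finsupp] at hmem
  obtain ⟨a, ha⟩ := hmem
  set T1 : StdIdx m q (s + 1) → Prop := fun c => ∃ i, c.2.1 i = Mdel hm hq with hT1
  set S1 := a.support.filter T1 with hS1
  set S2 := a.support.filter (fun c => ¬ T1 c) with hS2
  set G1 := ∑ c ∈ S1, a c • bitab K c.2.1 with hG1
  set G2 := ∑ c ∈ S2, a c • bitab K c.2.1 with hG2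
  have hsplit : a.sum (fun c x => x • bitab K c.2.1) = G1 + G2 := by
    rw [Finsupp.sum, hG1, hG2, hS1, hS2, Finset.sum_filter_add_sum_filter_not]
  have hker : pm (G - (G1 + G2)) = 0 := by
    have hmem : G - (G1 + G2) ∈ CAlgX.minorIdeal (genMatrix K m q) (s + 1 + 1) := by
      rw [← Ideal.Quotient.eq, ← ha, ← hsplit, Finsupp.sum, Finsupp.sum, map_sum]
      apply Finset.sum_congr rfl
      intro c _
      rfl
    have := minorIdeal_le_ker_pairingMap K (s + 1) m q (s + 1 + 1) (Nat.lt_succ_self _) hmem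
    rw [RingHom.mem_ker] at this
    exact this
  -- the part divisible by the leading minor
  have hdiv : ∃ H1 : MvPolynomial (Fin m × Fin q) K, G1 = minorOf K (Mdel hm hq) * H1 := by
    have hterm : ∀ c ∈ S1, ∃ H : MvPolynomial (Fin m × Fin q) K,
        a c • bitab K c.2.1 = minorOf K (Mdel hm hq) * H := by
      intro c hc
      obtain ⟨i, hi⟩ := (Finset.mem_filter.mp hc).2
      refine ⟨a c • ∏ j ∈ Finset.univ.erase i, minorOf K (c.2.1 j), ?_⟩
      unfold bitab
      rw [← Finset.mul_prod_erase _ _ (Finset.mem_univ i), hi, mul_smul_comm]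
    choose! H hH using hterm
    refine ⟨∑ c ∈ S1, H c, ?_⟩
    rw [hG1, Finset.mul_sum]
    exact Finset.sum_congr rfl hH
  obtain ⟨H1, hH1⟩ := hdiv
  have hG2eq : pm G2 = δ * (g - pm H1) := by
    have h1 : pm G = pm G1 + pm G2 := by
      rw [map_sub, sub_eq_zero] at hker
      rw [hker, map_add]
    rw [hG', hH1, map_mul] at h1
    rw [mul_sub, h1]
    ring
  -- all coefficients of the second part vanish
  have hzero : ∀ c ∈ S2, a c = 0 := by
    intro c0 hc0
    have hnot : ∀ i, c0.2.1 i ≠ Mdel hm hq := by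
      intro i hi
      exact (Finset.mem_filter.mp hc0).2 ⟨i, hi⟩
    set v := lowV c0 with hv
    have hcomp := psiPairV_comp K (s + 1) m q v (s + 1) hm (vT_le_lowV hm c0) hq (le_refl _)
    have hrho : rhoV q K v G2 = 0 := by
      rw [← hcomp, AlgHom.comp_apply]
      show psiPairV K (s + 1) m q v (s + 1) hq (pm G2) = 0
      rw [hG2eq, map_mul]
      have : psiPairV K (s + 1) m q v (s + 1) hq δ = 0 := by
        have h2 : psiPairV K (s + 1) m q v (s + 1) hq δ = rhoV q K v (minorOf K (Mdel hm hq)) := by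
          rw [← hcomp]; rfl
        rw [h2]
        exact rhoV_minorOf_eq_zero q K v hqpos _ (not_lowV_le hm hq c0 hnot)
      rw [this, zero_mul]
    rw [hG2, map_sum] at hrho
    simp only [map_smul] at hrho
    exact coeff_eq_zero_of_rhoV q K v hqpos S2 (fun c => a c) hrho c0 hc0 (lowV_le c0)
  have hG2zero : G2 = 0 := by
    rw [hG2]
    apply Finset.sum_eq_zero
    intro c hc
    rw [hzero c hc, zero_smul]
  rw [hG2zero, map_zero] at hG2eq
  have hδne : δ ≠ 0 := pairing_Mdel_ne_zero K hm hq
  have := (mul_eq_zero.mp hG2eq.symm).resolve_left hδne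
  rw [sub_eq_zero] at this
  exact ⟨H1, this.symm⟩

/-- Saturation with respect to powers of the leading minor. -/
theorem mem_range_of_pow_mul_mem (k : ℕ) (g : PairRing K (s + 1) m q)
    (h : pairingMap K (s + 1) m q (minorOf K (Mdel hm hq)) ^ k * g ∈
      (pairingMap K (s + 1) m q).range) :
    g ∈ (pairingMap K (s + 1) m q).range := by
  induction k with
  | zero => rwa [pow_zero, one_mul] at h
  | succ k ih =>
    apply ih
    apply mem_range_of_mul_mem K hm hq
    rw [← mul_assoc, ← pow_succ']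
    exact h

end Groth.Agent.Lib.Helper6.Det

end
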