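import Groth.Agent.Lib.Helper6.Det.Span

/-!
# Determinantal varieties: minors of a product of small inner dimension vanish (helper6)
-/

open scoped Classical
set_option linter.unusedSectionVars false
set_option autoImplicit false

universe u v

noncomputable section

namespace Groth.Agent.Lib.Helper6.Det

open W4bk4grassmannian Groth.Agent.Lib.Helper6.Gr MvPolynomial

/-- The `t`-minors of a product with inner dimension `r < t` vanish. -/
theorem det_submatrix_mul_eq_zero {R : Type*} [CommRing R] [IsDomain R] {α β : Type*}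
    [Fintype α] [Fintype β] (r t : ℕ) (A : Matrix α (Fin r) R) (B : Matrix (Fin r) β R)
    (f : Fin t → α) (g : Fin t → β) (h : r < t) : ((A * B).submatrix f g).det = 0 := by
  have e : (A * B).submatrix f g = A.submatrix f id * B.submatrix id g :=
    Matrix.submatrix_mul A B f id g Function.bijective_id
  by_contra hne
  have h1 := Matrix.rank_of_det_mem_nonZeroDivisors (mem_nonZeroDivisors_of_ne_zero hne)
  rw [e] at h1
  have h2 := Matrix.rank_mul_le_left (A.submatrix f id) (B.submatrix id g)
  have h3 := Matrix.rank_le_width (A.submatrix f id)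
  rw [Fintype.card_fin] at h1
  omega

variable {m n : ℕ} (K : Type u) [CommRing K]

/-- A ring map sending the generic matrix to a product of inner dimension `r` kills the `t`-minors, `t > r`. -/
theorem minorIdeal_le_ker_of_factor {S : Type*} [CommRing S] [IsDomain S]
    (ψ : MvPolynomial (Fin m × Fin n) K →+* S)
    (r : ℕ) (A : Matrix (Fin m) (Fin r) S) (B : Matrix (Fin r) (Fin n) S)
    (h : ∀ i j, ψ (X (i, j)) = (A * B) i j) (t : ℕ) (hrt : r < t) :
    CAlgX.minorIdeal (genMatrix K m n) t ≤ RingHom.ker ψ := by
  unfold CAlgX.minorIdeal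
  rw [Ideal.span_le]
  rintro _ ⟨⟨f, g⟩, rfl⟩
  rw [SetLike.mem_coe, RingHom.mem_ker, RingHom.map_det]
  have e : ψ.mapMatrix ((genMatrix K m n).submatrix f g) = (A * B).submatrix f g := by
    apply Matrix.ext
    intro a b
    simp only [RingHom.mapMatrix_apply, Matrix.map_apply, Matrix.submatrix_apply]
    exact h _ _
  rw [e]
  exact det_submatrix_mul_eq_zero r t A B f g hrt

/-- No minors of size exceeding the number of rows or columns. -/
theorem minorIdeal_eq_bot {R : Type*} [CommRing R] (Z : Matrix (Fin m) (Fin n) R) (t : ℕ)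
    (h : m < t ∨ n < t) : CAlgX.minorIdeal Z t = ⊥ := by
  unfold CAlgX.minorIdeal
  rw [Ideal.span_eq_bot]
  rintro _ ⟨⟨f, g⟩, rfl⟩
  rcases h with h | h
  · obtain ⟨i, j, hij, hf⟩ := Fintype.exists_ne_map_eq_of_card_lt f (by simpa using h)
    apply Matrix.det_zero_of_row_eq hij
    funext c
    simp only [Matrix.submatrix_apply, hf]
  · obtain ⟨i, j, hij, hf⟩ := Fintype.exists_ne_map_eq_of_card_lt g (by simpa using h)
    apply Matrix.det_zero_of_column_eq hij
    intro c
    simp only [Matrix.submatrix_apply, hf]

/-- The generic left factor. -/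
def Umat (r m q : ℕ) : Matrix (Fin m) (Fin r) (PairRing K r m q) := Matrix.of fun i k => X (Sum.inl (i, k))

/-- The generic right factor. -/
def Ximat (r m q : ℕ) : Matrix (Fin r) (Fin q) (PairRing K r m q) := Matrix.of fun k j => X (Sum.inr (k, j))

lemma pairingMap_X (r m q : ℕ) (i : Fin m) (j : Fin q) :
    pairingMap K r m q (X (i, j)) = (Umat K r m q * Ximat K r m q) i j := by
  unfold pairingMap
  rw [aeval_X, Matrix.mul_apply]
  rfl

theorem minorIdeal_le_ker_pairingMap [IsDomain K] (r m q : ℕ) (t : ℕ) (hrt : r < t) :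
    CAlgX.minorIdeal (genMatrix K m q) t ≤ RingHom.ker (pairingMap K r m q).toRingHom :=
  minorIdeal_le_ker_of_factor K (pairingMap K r m q).toRingHom r (Umat K r m q) (Ximat K r m q)
    (fun i j => pairingMap_X K r m q i j) t hrt

end Groth.Agent.Lib.Helper6.Det

end
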