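import Groth.Agent.Lib.Helper6.Det.Rank
import Groth.Agent.Lib.Helper6.Grass.Quad

/-!
# Determinantal varieties: the generic point of the determinantal locus (helper6)

We build a `K`-algebra map `rho : K[Z] → Frac K[x]` killing the `(r+1)`-minors and sending a minor
`[A | B]` of size `≤ r` to a unit multiple of the band minor `p_{Φ[A|B]}` of the generic band matrix
between `vT r` and the top index.
-/

open scoped Classical
set_option linter.unusedSectionVars false
set_option autoImplicit false

universe u v

noncomputable section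

namespace Groth.Agent.Lib.Helper6.Det

open W4bk4grassmannian Groth.Agent.Lib.Helper6.Gr MvPolynomial

variable {m n : ℕ} (K : Type u) [Field K]

/-- The fraction field of the polynomial ring in the band variables. -/
abbrev FrP (K : Type u) [Field K] (m n : ℕ) : Type u := FractionRing (MvPolynomial (Var n (m + n)) K)

/-- The antidiagonal identity. -/
def Jmat (n : ℕ) (R : Type*) [CommRing R] : Matrix (Fin n) (Fin n) R :=
  Matrix.of fun k c => if k.val + c.val + 1 = n then 1 else 0

lemma Wmat_topN_row {R : Type*} [CommRing R] (Z : Matrix (Fin m) (Fin n) R) (p c : Fin n) :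
    Wmat Z ((topN m n).1 p) c = Jmat n R p c := by
  simp only [Wmat, Matrix.of_apply, Jmat]
  have h1 : ¬ ((topN m n).1 p).val < m := by rw [topN_val]; omega
  rw [dif_neg h1, topN_val]
  have e : m + p.val - m = p.val := by omega
  rw [e]

lemma det_Jmat (m : ℕ) (n : ℕ) (R : Type*) [CommRing R] : (Jmat n R).det = ((uTop n : ℤ) : R) := by
  rw [← pM_Wmat_topN (m := m) (0 : Matrix (Fin m) (Fin n) R)]
  unfold pM
  congr 1
  apply Matrix.ext
  intro p c
  rw [Matrix.submatrix_apply, Wmat_topN_row]
  rfl

section setup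

variable (n) (r : ℕ) (hr : r ≤ m)

/-- The generic band matrix over the fraction field. -/
def Lb : Matrix (Fin (m + n)) (Fin n) (FrP K m n) :=
  (LmatB K (vT r hr) (topN m n)).map (algebraMap (MvPolynomial (Var n (m + n)) K) (FrP K m n))

/-- The bottom block of the band matrix. -/
def L2 : Matrix (Fin n) (Fin n) (FrP K m n) := (Lb n K r hr).submatrix (topN m n).1 id

lemma det_L2 : (L2 n K r hr).det = algebraMap (MvPolynomial (Var n (m + n)) K) (FrP K m n)
    (phiB K (vT r hr) (topN m n) (X (topN m n))) := by
  unfold phiB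
  rw [evalAt_X, map_pM]
  rfl

lemma phiB_top_ne_zero (hn : 0 < n) : phiB K (vT r hr) (topN m n) (X (topN m n)) ≠ 0 :=
  (phiB_X_monic K hn (vT r hr) (topN m n) (topN m n) (le_topI _ _) (le_refl _)).1.ne_zero

lemma det_L2_ne_zero (hn : 0 < n) : (L2 n K r hr).det ≠ 0 := by
  rw [det_L2]
  intro h
  apply phiB_top_ne_zero n K r hr hn
  exact (IsFractionRing.injective (MvPolynomial (Var n (m + n)) K) (FrP K m n))
    (by rw [h, map_zero])

lemma isUnit_det_L2 (hn : 0 < n) : IsUnit (L2 n K r hr).det :=
  isUnit_iff_ne_zero.mpr (det_L2_ne_zero n K r hr hn)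

/-- The column operation normalising the bottom block to the antidiagonal identity. -/
def hmat : Matrix (Fin n) (Fin n) (FrP K m n) := (L2 n K r hr)⁻¹ * Jmat n (FrP K m n)

lemma det_hmat_mul (hn : 0 < n) :
    (hmat n K r hr).det * algebraMap (MvPolynomial (Var n (m + n)) K) (FrP K m n)
      (phiB K (vT r hr) (topN m n) (X (topN m n))) = ((uTop n : ℤ) : FrP K m n) := by
  unfold hmat
  rw [Matrix.det_mul, ← det_L2, mul_right_comm, Matrix.det_nonsing_inv_mul_det _ (isUnit_det_L2 n K r hr hn),
    one_mul, det_Jmat m]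

/-- The generic matrix of rank `≤ r`. -/
def Y0 : Matrix (Fin m) (Fin n) (FrP K m n) :=
  Matrix.of fun i j => (Lb n K r hr * hmat n K r hr) ⟨i.val, by have := i.isLt; omega⟩ j

lemma Wmat_Y0 (hn : 0 < n) : Wmat (Y0 n K r hr) = Lb n K r hr * hmat n K r hr := by
  apply Matrix.ext
  intro i c
  by_cases h : i.val < m
  · simp only [Wmat, Matrix.of_apply]
    rw [dif_pos h]
    rfl
  · have hi := i.isLt
    have e : i = (topN m n).1 ⟨i.val - m, by omega⟩ := by
      apply Fin.ext
      rw [topN_val]
      simp only
      omega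
    rw [e, Wmat_topN_row]
    have h2 : (Lb n K r hr * hmat n K r hr).submatrix (topN m n).1 id = Jmat n (FrP K m n) := by
      rw [Matrix.submatrix_mul (Lb n K r hr) (hmat n K r hr) (topN m n).1 id id Function.bijective_id]
      show L2 n K r hr * ((hmat n K r hr).submatrix id id) = _
      rw [Matrix.submatrix_id_id]
      unfold hmat
      exact Matrix.mul_nonsing_inv_cancel_left _ _ (isUnit_det_L2 n K r hr hn)
    have h3 := congrFun (congrFun h2 ⟨i.val - m, by omega⟩) c
    rw [Matrix.submatrix_apply] at h3
    exact h3.symm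

/-- The generic point of the determinantal locus. -/
def rho : MvPolynomial (Fin m × Fin n) K →ₐ[K] FrP K m n :=
  MvPolynomial.aeval fun p : Fin m × Fin n => Y0 n K r hr p.1 p.2

lemma genMatrix_map_rho :
    (genMatrix K m n).map (rho n K r hr) = Y0 n K r hr := by
  apply Matrix.ext
  intro i j
  simp only [Matrix.map_apply, genMatrix, Matrix.of_apply, rho, aeval_X]

/-- The image of a minor under `rho`. -/
theorem rho_minorOf (hn : 0 < n) (M : MinorIdx m n) :
    rho n K r hr (minorOf K M) = ((uSign M : ℤ) : FrP K m n) *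
      (algebraMap (MvPolynomial (Var n (m + n)) K) (FrP K m n)
        (phiB K (vT r hr) (topN m n) (X (Phi M))) * (hmat n K r hr).det) := by
  have h1 : rho n K r hr (minorOf K M) = ((Y0 n K r hr).submatrix (rowsOf M).1 (colsOf M).1).det := by
    unfold minorOf
    rw [AlgHom.map_det]
    congr 1
    apply Matrix.ext
    intro a b
    simp only [AlgHom.mapMatrix_apply, Matrix.map_apply, Matrix.submatrix_apply]
    have := congrFun (congrFun (genMatrix_map_rho n K r hr) (M.2.1.1 a)) (M.2.2.1 b)
    rw [Matrix.map_apply] at this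
    exact this
  have h2 := pM_Wmat_Phi (Y0 n K r hr) M
  have h3 : ((Y0 n K r hr).submatrix (rowsOf M).1 (colsOf M).1).det =
      ((uSign M : ℤ) : FrP K m n) * pM (Wmat (Y0 n K r hr)) (Phi M).1 := by
    rw [h2, ← mul_assoc, ← Int.cast_mul, Int.units_coe_mul_self, Int.cast_one, one_mul]
  rw [h1, h3, Wmat_Y0 n K r hr hn, pM_mul]
  congr 2
  unfold phiB
  rw [evalAt_X, map_pM]
  rfl


lemma Lb_zero (i : Fin (m + n)) (hi : i.val < m) (p : Fin n) (hp : r ≤ p.val) :
    Lb n K r hr i p = 0 := by
  unfold Lb
  rw [Matrix.map_apply]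
  have : LmatB K (vT r hr) (topN m n) i p = 0 := by
    simp only [LmatB, Matrix.of_apply]
    rw [if_neg]
    rintro ⟨h1, -⟩
    rw [Fin.le_def] at h1
    simp only [vT] at h1
    rw [dif_neg (by omega)] at h1
    simp only at h1
    omega
  rw [this, map_zero]

/-- Left factor of the generic rank `≤ r` matrix. -/
def A0 (hrn : r ≤ n) : Matrix (Fin m) (Fin r) (FrP K m n) :=
  Matrix.of fun i k => Lb n K r hr ⟨i.val, by have := i.isLt; omega⟩ (Fin.castLE hrn k)

/-- Right factor of the generic rank `≤ r` matrix. -/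
def B0 (hrn : r ≤ n) : Matrix (Fin r) (Fin n) (FrP K m n) :=
  Matrix.of fun k j => hmat n K r hr (Fin.castLE hrn k) j

lemma Y0_eq (hrn : r ≤ n) : Y0 n K r hr = A0 n K r hr hrn * B0 n K r hr hrn := by
  apply Matrix.ext
  intro i j
  rw [Matrix.mul_apply]
  simp only [Y0, Matrix.of_apply, A0, B0]
  rw [Matrix.mul_apply]
  symm
  apply Fintype.sum_of_injective (Fin.castLE hrn) (Fin.castLE_injective hrn)
  · intro p hp
    have hp' : r ≤ p.val := by
      by_contra hcon
      apply hp
      exact ⟨⟨p.val, by omega⟩, Fin.ext rfl⟩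
    rw [Lb_zero n K r hr _ i.isLt p hp', zero_mul]
  · intro k
    rfl

lemma rho_X (i : Fin m) (j : Fin n) : rho n K r hr (X (i, j)) = Y0 n K r hr i j := by
  unfold rho
  rw [aeval_X]

/-- `rho` kills the `(r+1)`-minors. -/
theorem minorIdeal_le_ker_rho (hrn : r ≤ n) (t : ℕ) (ht : r < t) :
    CAlgX.minorIdeal (genMatrix K m n) t ≤ RingHom.ker (rho n K r hr).toRingHom :=
  minorIdeal_le_ker_of_factor K (rho n K r hr).toRingHom r (A0 n K r hr hrn) (B0 n K r hr hrn)
    (fun i j => by
      show rho n K r hr (X (i, j)) = _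
      rw [rho_X, Y0_eq n K r hr hrn]) t ht

end setup

/-- The index set of standard bitableaux with minors of size `≤ r`. -/
abbrev StdIdx (m n r : ℕ) : Type :=
  Σ k : ℕ, {c : Fin k → MinorIdx m n // (∀ i, (c i).1 + 1 ≤ r) ∧ ∀ i j, i < j → MinorGE (c i) (c j)}

section ext

variable {r : ℕ}

/-- The chain of Plücker indices of a standard bitableau. -/
def phiChain (c : StdIdx m n r) : Fin c.1 → Idx n (m + n) := fun i => Phi (c.2.1 i)

lemma antitone_phiChain (c : StdIdx m n r) : Antitone (phiChain c) := by
  intro i i' hii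
  rcases eq_or_lt_of_le hii with h | h
  · rw [h]
  · exact (Phi_le_iff (c.2.1 i) (c.2.1 i')).mpr (c.2.2.2 i i' h)

lemma antitone_append {j k : ℕ} (c : Fin k → Idx n (m + n)) (hc : Antitone c) :
    Antitone (Fin.append (fun _ : Fin j => topN m n) c) := by
  intro x y hxy
  induction x using Fin.addCases with
  | left x =>
    rw [Fin.append_left]
    exact le_topI _ _
  | right x =>
    induction y using Fin.addCases with
    | left y =>
      exfalso
      rw [Fin.le_def] at hxy
      simp only [Fin.val_natAdd, Fin.val_castAdd] at hxy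
      have := y.isLt
      omega
    | right y =>
      rw [Fin.append_right, Fin.append_right]
      apply hc
      rw [Fin.le_def] at hxy ⊢
      simp only [Fin.val_natAdd] at hxy
      omega

/-- The homogenised chain: pad with the top index up to length `max N k`. -/
def extC (N : ℕ) (c : StdIdx m n r) : Σ len : ℕ, Fin len → Idx n (m + n) :=
  ⟨(max N c.1 - c.1) + c.1, Fin.append (fun _ => topN m n) (phiChain c)⟩

/-- Remove the top indices from a chain. -/
def strip (s : Σ len : ℕ, Fin len → Idx n (m + n)) : List (Idx n (m + n)) :=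
  (List.ofFn s.2).filter fun θ => decide (θ ≠ topN m n)

lemma strip_extC (N : ℕ) (c : StdIdx m n r) : strip (extC N c) = List.ofFn (phiChain c) := by
  unfold strip extC
  simp only
  rw [List.ofFn_fin_append, List.filter_append]
  have h1 : (List.ofFn fun _ : Fin (max N c.1 - c.1) => topN m n).filter
      (fun θ => decide (θ ≠ topN m n)) = [] := by
    rw [List.filter_eq_nil_iff]
    intro a ha
    rw [List.mem_ofFn] at ha
    obtain ⟨_, rfl⟩ := ha
    simp
  have h2 : (List.ofFn (phiChain c)).filter (fun θ => decide (θ ≠ topN m n)) =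
      List.ofFn (phiChain c) := by
    rw [List.filter_eq_self]
    intro a ha
    rw [List.mem_ofFn] at ha
    obtain ⟨i, rfl⟩ := ha
    simp only [decide_eq_true_eq]
    exact Phi_ne_topN _
  rw [h1, h2, List.nil_append]

lemma extC_injective (N : ℕ) : Function.Injective (extC (m := m) (n := n) (r := r) N) := by
  intro c c' h
  have h1 : strip (extC N c) = strip (extC N c') := by rw [h]
  rw [strip_extC, strip_extC, List.ofFn_inj'] at h1
  obtain ⟨k, c0, hc0⟩ := c
  obtain ⟨k', c0', hc0'⟩ := c'
  simp only [Sigma.mk.injEq] at h1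
  obtain ⟨rfl, h2⟩ := h1
  have h3 := eq_of_heq h2
  have : c0 = c0' := funext fun i => Phi_injective (congrFun h3 i)
  subst this
  rfl

lemma chainMon_extC (N : ℕ) (c : StdIdx m n r) :
    chainMon K (extC N c).2 = X (topN m n) ^ (max N c.1 - c.1) * chainMon K (phiChain c) := by
  unfold chainMon extC
  simp only
  rw [Fin.prod_univ_add]
  congr 1
  · simp only [Fin.append_left, Finset.prod_const, Finset.card_univ, Fintype.card_fin]
  · simp only [Fin.append_right]

end ext

end Groth.Agent.Lib.Helper6.Det

end
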