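import Groth.Agent.Lib.Helper6.Det.Rho

/-!
# Determinantal varieties: linear independence of the standard bitableaux at the generic point (helper6)
-/

open scoped Classical
set_option linter.unusedSectionVars false
set_option autoImplicit false

universe u v

noncomputable section

namespace Groth.Agent.Lib.Helper6.Det

open W4bk4grassmannian Groth.Agent.Lib.Helper6.Gr MvPolynomial

variable {m : ℕ} (n : ℕ) (K : Type u) [Field K] (r : ℕ) (hr : r ≤ m)

/-- The band comorphism with values in the fraction field. -/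
def Psi : PlRing K n (m + n) →ₐ[K] FrP K m n :=
  (IsScalarTower.toAlgHom K (MvPolynomial (Var n (m + n)) K) (FrP K m n)).comp
    (phiB K (vT r hr) (topN m n))

lemma Psi_apply (f : PlRing K n (m + n)) :
    Psi n K r hr f = algebraMap (MvPolynomial (Var n (m + n)) K) (FrP K m n)
      (phiB K (vT r hr) (topN m n) f) := rfl

lemma Psi_injective_on (f : PlRing K n (m + n)) (h : Psi n K r hr f = 0) :
    phiB K (vT r hr) (topN m n) f = 0 := by
  rw [Psi_apply] at h
  exact (IsFractionRing.injective (MvPolynomial (Var n (m + n)) K) (FrP K m n))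
    (by rw [h, map_zero])

/-- The sign attached to a bitableau. -/
def sgn {r : ℕ} (c : StdIdx m n r) : ℤˣ := (∏ i, uSign (c.2.1 i)) * uTop n ^ c.1

lemma rho_bitab (hn : 0 < n) (c : StdIdx m n r) :
    rho n K r hr (bitab K c.2.1) = (((∏ i, uSign (c.2.1 i) : ℤˣ) : ℤ) : FrP K m n) *
      (Psi n K r hr (chainMon K (phiChain c)) * (hmat n K r hr).det ^ c.1) := by
  unfold bitab chainMon
  rw [map_prod, map_prod]
  simp_rw [rho_minorOf n K r hr hn]
  rw [Finset.prod_mul_distrib, Finset.prod_mul_distrib, Finset.prod_const, Finset.card_univ,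
    Fintype.card_fin, Units.coe_prod, Int.cast_prod]
  rfl

lemma Psi_top_mul (hn : 0 < n) :
    Psi n K r hr (X (topN m n)) * (hmat n K r hr).det = ((uTop n : ℤ) : FrP K m n) := by
  rw [mul_comm, Psi_apply]
  exact det_hmat_mul n K r hr hn

lemma key_mul (hn : 0 < n) (N : ℕ) (c : StdIdx m n r) (hc : c.1 ≤ N) :
    Psi n K r hr (X (topN m n)) ^ N * rho n K r hr (bitab K c.2.1) =
      (((sgn n c : ℤˣ) : ℤ) : FrP K m n) * Psi n K r hr (chainMon K (extC N c).2) := by
  rw [rho_bitab n K r hr hn, chainMon_extC, map_mul, map_pow]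
  have e : max N c.1 - c.1 = N - c.1 := by rw [max_eq_left hc]
  rw [e]
  have hN : N = (N - c.1) + c.1 := by omega
  have h1 : Psi n K r hr (X (topN m n)) ^ N * (hmat n K r hr).det ^ c.1 =
      Psi n K r hr (X (topN m n)) ^ (N - c.1) * ((uTop n : ℤ) : FrP K m n) ^ c.1 := by
    conv_lhs => rw [hN, pow_add, mul_assoc, ← mul_pow, Psi_top_mul n K r hr hn]
  unfold sgn
  rw [Units.val_mul, Int.cast_mul, Units.val_pow_eq_pow_val, Int.cast_pow]
  calc Psi n K r hr (X (topN m n)) ^ N * ((((∏ i, uSign (c.2.1 i) : ℤˣ) : ℤ) : FrP K m n) *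
        (Psi n K r hr (chainMon K (phiChain c)) * (hmat n K r hr).det ^ c.1))
      = (((∏ i, uSign (c.2.1 i) : ℤˣ) : ℤ) : FrP K m n) * Psi n K r hr (chainMon K (phiChain c)) *
        (Psi n K r hr (X (topN m n)) ^ N * (hmat n K r hr).det ^ c.1) := by ring
    _ = _ := by rw [h1]; ring

/-- The standard bitableaux of size `≤ r` are linearly independent at the generic point. -/
theorem linearIndependent_rho_bitab (hn : 0 < n) :
    LinearIndependent K (fun c : StdIdx m n r => rho n K r hr (bitab K c.2.1)) := by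
  rw [linearIndependent_iff']
  intro s g hsum c0 hc0
  set N := s.sup (fun c : StdIdx m n r => c.1) with hN
  have hkN : ∀ c ∈ s, c.1 ≤ N := fun c hc => Finset.le_sup (f := fun c : StdIdx m n r => c.1) hc
  have hLI := linearIndependent_phiB K hn (vT r hr) (topN m n) (extC (m := m) (n := n) (r := r) N)
    (extC_injective N) (fun c => antitone_append _ (antitone_phiChain c))
    (fun c k => by
      show vT r hr ≤ Fin.append (fun _ => topN m n) (phiChain c) k
      induction k using Fin.addCases with
      | left x => rw [Fin.append_left]; exact le_topI _ _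
      | right x => rw [Fin.append_right]; exact vT_le_Phi r hr _ (c.2.2.1 x))
    (fun c k => le_topI _ _)
  rw [linearIndependent_iff'] at hLI
  have hz : ∑ c ∈ s, (g c * (((sgn n c : ℤˣ) : ℤ) : K)) •
      phiB K (vT r hr) (topN m n) (chainMon K (extC N c).2) = 0 := by
    have h1 : phiB K (vT r hr) (topN m n)
        (∑ c ∈ s, (g c * (((sgn n c : ℤˣ) : ℤ) : K)) • chainMon K (extC N c).2) = 0 := by
      apply Psi_injective_on n K r hr
      rw [map_sum]
      have h2 : Psi n K r hr (X (topN m n)) ^ N * ∑ c ∈ s, g c • rho n K r hr (bitab K c.2.1) = 0 := by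
        rw [hsum, mul_zero]
      rw [Finset.mul_sum] at h2
      rw [← h2]
      apply Finset.sum_congr rfl
      intro c hc
      rw [map_smul, mul_smul_comm, key_mul n K r hr hn N c (hkN c hc), mul_smul]
      congr 1
      rw [Algebra.smul_def, map_intCast]
    rw [map_sum] at h1
    simp only [map_smul] at h1
    exact h1
  have := hLI s _ hz c0 hc0
  have hu : (((sgn n c0 : ℤˣ) : ℤ) : K) ≠ 0 := by
    intro h0
    have h1 : (((sgn n c0 : ℤˣ) : ℤ) : K) * (((sgn n c0 : ℤˣ) : ℤ) : K) = 1 := by
      rw [← Int.cast_mul, Int.units_coe_mul_self, Int.cast_one]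
    rw [h0, mul_zero] at h1
    exact zero_ne_one h1
  exact (mul_eq_zero.mp this).resolve_right hu

end Groth.Agent.Lib.Helper6.Det

end
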