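import Groth.Agent.Lib.Helper6.Det.RhoLI

/-!
# Determinantal varieties: the generic point of the locus `Φ ≥ v` (helper6)

Generalisation of `Rho.lean` from `v = vT r` to an arbitrary lower bound `v`.
-/

open scoped Classical
set_option linter.unusedSectionVars false
set_option autoImplicit false

universe u v

noncomputable section

namespace Groth.Agent.Lib.Helper6.Det

open W4bk4grassmannian Groth.Agent.Lib.Helper6.Gr MvPolynomial

variable {m n : ℕ} (K : Type u) [Field K]

section setup

variable (n) (v : Idx n (m + n))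

/-- The generic band matrix over the fraction field. -/
def LbV : Matrix (Fin (m + n)) (Fin n) (FrP K m n) :=
  (LmatB K v (topN m n)).map (algebraMap (MvPolynomial (Var n (m + n)) K) (FrP K m n))

/-- The bottom block of the band matrix. -/
def L2V : Matrix (Fin n) (Fin n) (FrP K m n) := (LbV n K v).submatrix (topN m n).1 id

lemma det_L2V : (L2V n K v).det = algebraMap (MvPolynomial (Var n (m + n)) K) (FrP K m n)
    (phiB K v (topN m n) (X (topN m n))) := by
  unfold phiB
  rw [evalAt_X, map_pM]
  rfl

lemma phiB_top_ne_zeroV (hn : 0 < n) : phiB K v (topN m n) (X (topN m n)) ≠ 0 :=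
  (phiB_X_monic K hn v (topN m n) (topN m n) (le_topI _ _) (le_refl _)).1.ne_zero

lemma det_L2_ne_zeroV (hn : 0 < n) : (L2V n K v).det ≠ 0 := by
  rw [det_L2V]
  intro h
  apply phiB_top_ne_zeroV n K v hn
  exact (IsFractionRing.injective (MvPolynomial (Var n (m + n)) K) (FrP K m n))
    (by rw [h, map_zero])

lemma isUnit_det_L2V (hn : 0 < n) : IsUnit (L2V n K v).det :=
  isUnit_iff_ne_zero.mpr (det_L2_ne_zeroV n K v hn)

/-- The column operation normalising the bottom block to the antidiagonal identity. -/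
def hmatV : Matrix (Fin n) (Fin n) (FrP K m n) := (L2V n K v)⁻¹ * Jmat n (FrP K m n)

lemma det_hmat_mulV (hn : 0 < n) :
    (hmatV n K v).det * algebraMap (MvPolynomial (Var n (m + n)) K) (FrP K m n)
      (phiB K v (topN m n) (X (topN m n))) = ((uTop n : ℤ) : FrP K m n) := by
  unfold hmatV
  rw [Matrix.det_mul, ← det_L2V, mul_right_comm, Matrix.det_nonsing_inv_mul_det _ (isUnit_det_L2V n K v hn),
    one_mul, det_Jmat m]

/-- The generic matrix of rank `≤ r`. -/
def Y0V : Matrix (Fin m) (Fin n) (FrP K m n) :=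
  Matrix.of fun i j => (LbV n K v * hmatV n K v) ⟨i.val, by have := i.isLt; omega⟩ j

lemma Wmat_Y0V (hn : 0 < n) : Wmat (Y0V n K v) = LbV n K v * hmatV n K v := by
  apply Matrix.ext
  intro i c
  by_cases h : i.val < m
  · simp only [Wmat, Matrix.of_apply]
    rw [dif_pos h]
    rfl
  · have hi := i.isLt
    have e : i = (topN m n).1 ⟨i.val - m, by omega⟩ := by
      apply Fin.ext
      rw [topN_val]
      simp only
      omega
    rw [e, Wmat_topN_row]
    have h2 : (LbV n K v * hmatV n K v).submatrix (topN m n).1 id = Jmat n (FrP K m n) := by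
      rw [Matrix.submatrix_mul (LbV n K v) (hmatV n K v) (topN m n).1 id id Function.bijective_id]
      show L2V n K v * ((hmatV n K v).submatrix id id) = _
      rw [Matrix.submatrix_id_id]
      unfold hmatV
      exact Matrix.mul_nonsing_inv_cancel_left _ _ (isUnit_det_L2V n K v hn)
    have h3 := congrFun (congrFun h2 ⟨i.val - m, by omega⟩) c
    rw [Matrix.submatrix_apply] at h3
    exact h3.symm

/-- The generic point of the determinantal locus. -/
def rhoV : MvPolynomial (Fin m × Fin n) K →ₐ[K] FrP K m n :=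
  MvPolynomial.aeval fun p : Fin m × Fin n => Y0V n K v p.1 p.2

lemma genMatrix_map_rhoV :
    (genMatrix K m n).map (rhoV n K v) = Y0V n K v := by
  apply Matrix.ext
  intro i j
  simp only [Matrix.map_apply, genMatrix, Matrix.of_apply, rhoV, aeval_X]

/-- The image of a minor under `rhoV`. -/
theorem rho_minorOfV (hn : 0 < n) (M : MinorIdx m n) :
    rhoV n K v (minorOf K M) = ((uSign M : ℤ) : FrP K m n) *
      (algebraMap (MvPolynomial (Var n (m + n)) K) (FrP K m n)
        (phiB K v (topN m n) (X (Phi M))) * (hmatV n K v).det) := by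
  have h1 : rhoV n K v (minorOf K M) = ((Y0V n K v).submatrix (rowsOf M).1 (colsOf M).1).det := by
    unfold minorOf
    rw [AlgHom.map_det]
    congr 1
    apply Matrix.ext
    intro a b
    simp only [AlgHom.mapMatrix_apply, Matrix.map_apply, Matrix.submatrix_apply]
    have := congrFun (congrFun (genMatrix_map_rhoV n K v) (M.2.1.1 a)) (M.2.2.1 b)
    rw [Matrix.map_apply] at this
    exact this
  have h2 := pM_Wmat_Phi (Y0V n K v) M
  have h3 : ((Y0V n K v).submatrix (rowsOf M).1 (colsOf M).1).det =
      ((uSign M : ℤ) : FrP K m n) * pM (Wmat (Y0V n K v)) (Phi M).1 := by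
    rw [h2, ← mul_assoc, ← Int.cast_mul, Int.units_coe_mul_self, Int.cast_one, one_mul]
  rw [h1, h3, Wmat_Y0V n K v hn, pM_mul]
  congr 2
  unfold phiB
  rw [evalAt_X, map_pM]
  rfl



section rank

variable (r : ℕ) (hr : r ≤ m) (hv : vT r hr ≤ v)

include hv in
lemma Lb_zeroV (i : Fin (m + n)) (hi : i.val < m) (p : Fin n) (hp : r ≤ p.val) :
    LbV n K v i p = 0 := by
  unfold LbV
  rw [Matrix.map_apply]
  have : LmatB K v (topN m n) i p = 0 := by
    simp only [LmatB, Matrix.of_apply]
    rw [if_neg]
    rintro ⟨h1, -⟩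
    have h2 := hv p
    rw [Fin.le_def] at h1 h2
    simp only [vT] at h2
    rw [dif_neg (by omega)] at h2
    simp only at h2
    omega
  rw [this, map_zero]

/-- Left factor of the generic rank `≤ r` matrix. -/
def A0V (hrn : r ≤ n) : Matrix (Fin m) (Fin r) (FrP K m n) :=
  Matrix.of fun i k => LbV n K v ⟨i.val, by have := i.isLt; omega⟩ (Fin.castLE hrn k)

/-- Right factor of the generic rank `≤ r` matrix. -/
def B0V (hrn : r ≤ n) : Matrix (Fin r) (Fin n) (FrP K m n) :=
  Matrix.of fun k j => hmatV n K v (Fin.castLE hrn k) j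

include hv in
lemma Y0_eqV (hrn : r ≤ n) : Y0V n K v = A0V n K v r hrn * B0V n K v r hrn := by
  apply Matrix.ext
  intro i j
  rw [Matrix.mul_apply]
  simp only [Y0V, Matrix.of_apply, A0V, B0V]
  rw [Matrix.mul_apply]
  symm
  apply Fintype.sum_of_injective (Fin.castLE hrn) (Fin.castLE_injective hrn)
  · intro p hp
    have hp' : r ≤ p.val := by
      by_contra hcon
      apply hp
      exact ⟨⟨p.val, by omega⟩, Fin.ext rfl⟩
    rw [Lb_zeroV n K v r hr hv _ i.isLt p hp', zero_mul]
  · intro k
    rfl

lemma rho_XV (i : Fin m) (j : Fin n) : rhoV n K v (X (i, j)) = Y0V n K v i j := by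
  unfold rhoV
  rw [aeval_X]

include hv in
/-- `rhoV` kills the `(r+1)`-minors. -/
theorem minorIdeal_le_ker_rhoV (hrn : r ≤ n) (t : ℕ) (ht : r < t) :
    CAlgX.minorIdeal (genMatrix K m n) t ≤ RingHom.ker (rhoV n K v).toRingHom :=
  minorIdeal_le_ker_of_factor K (rhoV n K v).toRingHom r (A0V n K v r hrn) (B0V n K v r hrn)
    (fun i j => by
      show rhoV n K v (X (i, j)) = _
      rw [rho_XV, Y0_eqV n K v r hr hv hrn]) t ht

end rank

end setup

section pair

variable (n' m q : ℕ) (v : Idx q (m + q)) (r : ℕ) (hr : r ≤ m) (hv : vT r hr ≤ v) (hrq : r ≤ q)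
  (hrn : r ≤ n')

/-- The specialisation of the pair of generic matrices to the factors of the generic matrix of the `v`-locus. -/
def psiPairV : PairRing K n' m q →ₐ[K] FrP K m q :=
  MvPolynomial.aeval (Sum.elim
    (fun p : Fin m × Fin n' => if h : p.2.val < r then A0V q K v r hrq p.1 ⟨p.2.val, h⟩ else 0)
    (fun p : Fin n' × Fin q => if h : p.1.val < r then B0V q K v r hrq ⟨p.1.val, h⟩ p.2 else 0))

include hv hrn in
lemma psiPairV_comp : (psiPairV K n' m q v r hrq).comp (pairingMap K n' m q) = rhoV q K v := by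
  apply MvPolynomial.algHom_ext
  rintro ⟨i, j⟩
  rw [AlgHom.comp_apply, rho_XV, Y0_eqV q K v r hr hv hrq, Matrix.mul_apply]
  unfold pairingMap psiPairV
  rw [aeval_X, map_sum]
  simp only [map_mul, aeval_X, Sum.elim_inl, Sum.elim_inr]
  symm
  apply Fintype.sum_of_injective (Fin.castLE hrn) (Fin.castLE_injective hrn)
  · intro p hp
    have hp' : ¬ p.val < r := by
      intro hcon
      apply hp
      exact ⟨⟨p.val, hcon⟩, Fin.ext rfl⟩
    rw [dif_neg hp', zero_mul]
  · intro k
    have hk : (Fin.castLE hrn k).val < r := k.isLt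
    rw [dif_pos hk, dif_pos hk]
    rfl

end pair

end Groth.Agent.Lib.Helper6.Det

end
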