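import Groth.Agent.Lib.Helper6.Det.RhoV

/-!
# Determinantal varieties: coefficient extraction at the generic point of the locus `Φ ≥ v` (helper6)
-/

open scoped Classical
set_option linter.unusedSectionVars false
set_option autoImplicit false

universe u

noncomputable section

namespace Groth.Agent.Lib.Helper6.Det

open W4bk4grassmannian Groth.Agent.Lib.Helper6.Gr MvPolynomial

variable {m : ℕ} (n : ℕ) (K : Type u) [Field K] (v : Idx n (m + n))

/-- The band comorphism with values in the fraction field. -/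
def PsiV : PlRing K n (m + n) →ₐ[K] FrP K m n :=
  (IsScalarTower.toAlgHom K (MvPolynomial (Var n (m + n)) K) (FrP K m n)).comp
    (phiB K v (topN m n))

lemma PsiV_apply (f : PlRing K n (m + n)) :
    PsiV n K v f = algebraMap (MvPolynomial (Var n (m + n)) K) (FrP K m n)
      (phiB K v (topN m n) f) := rfl

lemma PsiV_injective_on (f : PlRing K n (m + n)) (h : PsiV n K v f = 0) :
    phiB K v (topN m n) f = 0 := by
  rw [PsiV_apply] at h
  exact (IsFractionRing.injective (MvPolynomial (Var n (m + n)) K) (FrP K m n))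
    (by rw [h, map_zero])

lemma rhoV_minorOf' (hn : 0 < n) (M : MinorIdx m n) :
    rhoV n K v (minorOf K M) = ((uSign M : ℤ) : FrP K m n) *
      (PsiV n K v (X (Phi M)) * (hmatV n K v).det) := rho_minorOfV n K v hn M

/-- `rhoV` kills the minors whose index is not above `v`. -/
lemma rhoV_minorOf_eq_zero (hn : 0 < n) (M : MinorIdx m n) (h : ¬ v ≤ Phi M) :
    rhoV n K v (minorOf K M) = 0 := by
  rw [rhoV_minorOf' n K v hn, PsiV_apply]
  have : phiB K v (topN m n) (X (Phi M)) = 0 := by
    unfold phiB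
    rw [evalAt_X]
    exact pM_LmatB_of_not_ge K v (topN m n) (Phi M) h
  rw [this, map_zero, zero_mul, mul_zero]

variable {r : ℕ}

lemma rhoV_bitab (hn : 0 < n) (c : StdIdx m n r) :
    rhoV n K v (bitab K c.2.1) = (((∏ i, uSign (c.2.1 i) : ℤˣ) : ℤ) : FrP K m n) *
      (PsiV n K v (chainMon K (phiChain c)) * (hmatV n K v).det ^ c.1) := by
  unfold bitab chainMon
  rw [map_prod, map_prod]
  simp_rw [rhoV_minorOf' n K v hn]
  rw [Finset.prod_mul_distrib, Finset.prod_mul_distrib, Finset.prod_const, Finset.card_univ,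
    Fintype.card_fin, Units.coe_prod, Int.cast_prod]
  rfl

lemma PsiV_top_mul (hn : 0 < n) :
    PsiV n K v (X (topN m n)) * (hmatV n K v).det = ((uTop n : ℤ) : FrP K m n) := by
  rw [mul_comm, PsiV_apply]
  exact det_hmat_mulV n K v hn

lemma key_mulV (hn : 0 < n) (N : ℕ) (c : StdIdx m n r) (hc : c.1 ≤ N) :
    PsiV n K v (X (topN m n)) ^ N * rhoV n K v (bitab K c.2.1) =
      (((sgn n c : ℤˣ) : ℤ) : FrP K m n) * PsiV n K v (chainMon K (extC N c).2) := by
  rw [rhoV_bitab n K v hn, chainMon_extC, map_mul, map_pow]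
  have e : max N c.1 - c.1 = N - c.1 := by rw [max_eq_left hc]
  rw [e]
  have hN : N = (N - c.1) + c.1 := by omega
  have h1 : PsiV n K v (X (topN m n)) ^ N * (hmatV n K v).det ^ c.1 =
      PsiV n K v (X (topN m n)) ^ (N - c.1) * ((uTop n : ℤ) : FrP K m n) ^ c.1 := by
    conv_lhs => rw [hN, pow_add, mul_assoc, ← mul_pow, PsiV_top_mul n K v hn]
  unfold sgn
  rw [Units.val_mul, Int.cast_mul, Units.val_pow_eq_pow_val, Int.cast_pow]
  calc PsiV n K v (X (topN m n)) ^ N * ((((∏ i, uSign (c.2.1 i) : ℤˣ) : ℤ) : FrP K m n) *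
        (PsiV n K v (chainMon K (phiChain c)) * (hmatV n K v).det ^ c.1))
      = (((∏ i, uSign (c.2.1 i) : ℤˣ) : ℤ) : FrP K m n) * PsiV n K v (chainMon K (phiChain c)) *
        (PsiV n K v (X (topN m n)) ^ N * (hmatV n K v).det ^ c.1) := by ring
    _ = _ := by rw [h1]; ring

lemma sgn_ne_zero (c : StdIdx m n r) : (((sgn n c : ℤˣ) : ℤ) : K) ≠ 0 := by
  intro h0
  have h1 : (((sgn n c : ℤˣ) : ℤ) : K) * (((sgn n c : ℤˣ) : ℤ) : K) = 1 := by
    rw [← Int.cast_mul, Int.units_coe_mul_self, Int.cast_one]
  rw [h0, mul_zero] at h1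
  exact zero_ne_one h1

/-- Coefficient extraction: a combination of standard bitableaux vanishing at the generic point of the
`v`-locus has zero coefficients at all bitableaux above `v`. -/
theorem coeff_eq_zero_of_rhoV (hn : 0 < n) (s : Finset (StdIdx m n r)) (g : StdIdx m n r → K)
    (hsum : ∑ c ∈ s, g c • rhoV n K v (bitab K c.2.1) = 0) (c0 : StdIdx m n r) (hc0 : c0 ∈ s)
    (hv0 : ∀ i, v ≤ Phi (c0.2.1 i)) : g c0 = 0 := by
  set N := s.sup (fun c : StdIdx m n r => c.1) with hN
  have hkN : ∀ c ∈ s, c.1 ≤ N := fun c hc => Finset.le_sup (f := fun c : StdIdx m n r => c.1) hc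
  -- the finitely supported coefficient function
  set a : StdIdx m n r →₀ K := Finsupp.onFinset s
    (fun c => if c ∈ s then g c * (((sgn n c : ℤˣ) : ℤ) : K) else 0)
    (fun c hc => by
      by_contra hcs
      simp only [if_neg hcs, ne_eq, not_true_eq_false] at hc) with ha
  have hz : phiB K v (topN m n) (a.sum fun c x => x • chainMon K (extC N c).2) = 0 := by
    apply PsiV_injective_on n K v
    rw [Finsupp.onFinset_sum _ (fun c => by rw [zero_smul])]
    rw [map_sum]
    have h2 : PsiV n K v (X (topN m n)) ^ N * ∑ c ∈ s, g c • rhoV n K v (bitab K c.2.1) = 0 := by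
      rw [hsum, mul_zero]
    rw [Finset.mul_sum] at h2
    rw [← h2]
    apply Finset.sum_congr rfl
    intro c hc
    rw [if_pos hc, map_smul, mul_smul_comm, key_mulV n K v hn N c (hkN c hc), mul_smul]
    congr 1
    rw [Algebra.smul_def, map_intCast]
  have hcoef := coeff_eq_zero_of_phiB K hn v (topN m n) (extC (m := m) (n := n) (r := r) N)
    (extC_injective N) (fun c => antitone_append _ (antitone_phiChain c)) a hz c0
    (fun k => by
      show v ≤ Fin.append (fun _ => topN m n) (phiChain c0) k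
      induction k using Fin.addCases with
      | left x => rw [Fin.append_left]; exact le_topI _ _
      | right x => rw [Fin.append_right]; exact hv0 x)
    (fun k => le_topI _ _)
  rw [ha, Finsupp.onFinset_apply, if_pos hc0] at hcoef
  exact (mul_eq_zero.mp hcoef).resolve_right (sgn_ne_zero n K c0)

end Groth.Agent.Lib.Helper6.Det

end
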