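import Groth.Agent.Lib.Helper6.Det.Dict2
import Groth.Agent.Lib.Helper6.Grass.Struct

/-!
# Determinantal varieties: the matrix `[Z ; J]` and its maximal minors (helper6)
-/

open scoped Classical
set_option linter.unusedSectionVars false
set_option autoImplicit false

universe u v

noncomputable section

namespace Groth.Agent.Lib.Helper6.Det

open W4bk4grassmannian Groth.Agent.Lib.Helper6.Gr

variable {m n : ℕ} {R : Type*} [CommRing R]

/-- The `(m + n) × n` matrix `[Z ; J]`, `J` the antidiagonal identity. -/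
def Wmat (Z : Matrix (Fin m) (Fin n) R) : Matrix (Fin (m + n)) (Fin n) R :=
  Matrix.of fun i c => if h : i.val < m then Z ⟨i.val, h⟩ c else
    if (i.val - m) + c.val + 1 = n then 1 else 0

lemma Wmat_map {S : Type*} [CommRing S] (f : R →+* S) (Z : Matrix (Fin m) (Fin n) R) :
    (Wmat Z).map f = Wmat (Z.map f) := by
  apply Matrix.ext
  intro i c
  simp only [Wmat, Matrix.map_apply, Matrix.of_apply]
  by_cases h : i.val < m
  · rw [dif_pos h, dif_pos h]
  · rw [dif_neg h, dif_neg h]
    by_cases h2 : (i.val - m) + c.val + 1 = n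
    · rw [if_pos h2, if_pos h2, map_one]
    · rw [if_neg h2, if_neg h2, map_zero]

lemma Wmat_Phi_lt (Z : Matrix (Fin m) (Fin n) R) (M : MinorIdx m n) (p : Fin n)
    (h : p.val < M.1 + 1) (c : Fin n) :
    Wmat Z ((Phi M).1 p) c = Z ((rowsOf M).1 ⟨p.val, h⟩) c := by
  have h1 : ((Phi M).1 p).val < m := PhiF_lt M p h
  simp only [Wmat, Matrix.of_apply]
  rw [dif_pos h1]
  congr 1
  apply Fin.ext
  show (PhiF M p).val = _
  unfold PhiF
  rw [dif_pos h]

lemma Wmat_Phi_ge (Z : Matrix (Fin m) (Fin n) R) (M : MinorIdx m n) (p : Fin n)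
    (h : ¬ p.val < M.1 + 1) (c : Fin n) :
    Wmat Z ((Phi M).1 p) c =
      if c = bc M ⟨n - 1 - p.val, by have := p.isLt; omega⟩ then 1 else 0 := by
  have h1 : ¬ ((Phi M).1 p).val < m := not_lt.mpr (PhiF_ge M p h)
  simp only [Wmat, Matrix.of_apply]
  rw [dif_neg h1]
  have e : ((Phi M).1 p).val = m + (n - 1 - (bc M ⟨n - 1 - p.val, by have := p.isLt; omega⟩).val) := by
    show (PhiF M p).val = _
    unfold PhiF
    rw [dif_neg h]
    rfl
  have hb := (bc M ⟨n - 1 - p.val, by have := p.isLt; omega⟩).isLt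
  have hc := c.isLt
  by_cases h2 : c = bc M ⟨n - 1 - p.val, by have := p.isLt; omega⟩
  · rw [if_pos h2, if_pos]
    rw [e, ← h2]
    omega
  · rw [if_neg h2, if_neg]
    intro h3
    apply h2
    apply Fin.ext
    rw [e] at h3
    omega

/-- Row reindexing: first the rows of `Z`, then the rows of `J`. -/
def rowEquiv (M : MinorIdx m n) : Fin (M.1 + 1) ⊕ Fin (n - (M.1 + 1)) ≃ Fin n :=
  finSumFinEquiv.trans (finCongr (by have := size_le_n M; omega))

lemma rowEquiv_inl (M : MinorIdx m n) (j : Fin (M.1 + 1)) : (rowEquiv M (Sum.inl j)).val = j.val := by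
  simp [rowEquiv]

lemma rowEquiv_inr (M : MinorIdx m n) (l : Fin (n - (M.1 + 1))) :
    (rowEquiv M (Sum.inr l)).val = M.1 + 1 + l.val := by
  simp [rowEquiv]

/-- The complementary columns in decreasing position order. -/
def bcRev (M : MinorIdx m n) (l : Fin (n - (M.1 + 1))) : Fin n :=
  bc M ⟨n - 1 - (M.1 + 1 + l.val), by have := l.isLt; omega⟩

/-- Column reindexing: first the columns of the minor, then the complementary ones. -/
def colFun (M : MinorIdx m n) : Fin (M.1 + 1) ⊕ Fin (n - (M.1 + 1)) → Fin n :=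
  Sum.elim (colsOf M).1 (bcRev M)

lemma bcRev_injective (M : MinorIdx m n) : Function.Injective (bcRev M) := by
  intro l l' h
  have := (bc_strictMono M).injective h
  simp only [Fin.mk.injEq] at this
  have h1 := l.isLt
  have h2 := l'.isLt
  apply Fin.ext
  omega

lemma cols_ne_bc (M : MinorIdx m n) (j : Fin (M.1 + 1)) (l : Fin (n - (M.1 + 1))) :
    (colsOf M).1 j ≠ bc M l := by
  intro h
  have := bc_mem M l
  rw [← h] at this
  unfold Bc at this
  rw [Finset.mem_compl] at this
  exact this (Finset.mem_image_of_mem _ (Finset.mem_univ _))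

lemma colFun_bijective (M : MinorIdx m n) : Function.Bijective (colFun M) := by
  rw [Fintype.bijective_iff_injective_and_card]
  constructor
  · rintro (j | l) (j' | l') h
    · simp only [colFun, Sum.elim_inl] at h
      rw [(colsOf M).2.injective h]
    · simp only [colFun, Sum.elim_inl, Sum.elim_inr] at h
      exact absurd h (cols_ne_bc M j _)
    · simp only [colFun, Sum.elim_inl, Sum.elim_inr] at h
      exact absurd h.symm (cols_ne_bc M j' _)
    · simp only [colFun, Sum.elim_inr] at h
      rw [bcRev_injective M h]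
  · rw [Fintype.card_sum, Fintype.card_fin, Fintype.card_fin, Fintype.card_fin]
    have := size_le_n M
    omega

def colEquiv (M : MinorIdx m n) : Fin (M.1 + 1) ⊕ Fin (n - (M.1 + 1)) ≃ Fin n :=
  Equiv.ofBijective (colFun M) (colFun_bijective M)

/-- The sign relating a minor and its Plücker coordinate. -/
def uSign (M : MinorIdx m n) : ℤˣ := Equiv.Perm.sign ((rowEquiv M).symm.trans (colEquiv M))

lemma block_eq (Z : Matrix (Fin m) (Fin n) R) (M : MinorIdx m n) :
    ((Wmat Z).submatrix (Phi M).1 id).submatrix (rowEquiv M) (colEquiv M) =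
      Matrix.fromBlocks (Z.submatrix (rowsOf M).1 (colsOf M).1) (Z.submatrix (rowsOf M).1 (bcRev M))
        0 1 := by
  apply Matrix.ext
  rintro (j | l) (j' | l')
  · rw [Matrix.fromBlocks_apply₁₁]
    simp only [Matrix.submatrix_apply, id_eq]
    have hj : (rowEquiv M (Sum.inl j)).val < M.1 + 1 := by rw [rowEquiv_inl]; exact j.isLt
    rw [Wmat_Phi_lt Z M _ hj]
    have e : (⟨(rowEquiv M (Sum.inl j)).val, hj⟩ : Fin (M.1 + 1)) = j := Fin.ext (rowEquiv_inl M j)
    rw [e]
    rfl
  · rw [Matrix.fromBlocks_apply₁₂]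
    simp only [Matrix.submatrix_apply, id_eq]
    have hj : (rowEquiv M (Sum.inl j)).val < M.1 + 1 := by rw [rowEquiv_inl]; exact j.isLt
    rw [Wmat_Phi_lt Z M _ hj]
    have e : (⟨(rowEquiv M (Sum.inl j)).val, hj⟩ : Fin (M.1 + 1)) = j := Fin.ext (rowEquiv_inl M j)
    rw [e]
    rfl
  · rw [Matrix.fromBlocks_apply₂₁]
    simp only [Matrix.submatrix_apply, id_eq]
    rw [Wmat_Phi_ge Z M _ (by rw [rowEquiv_inr]; omega)]
    rw [if_neg]
    · rfl
    · show ¬ (colEquiv M (Sum.inl j') = _)
      exact cols_ne_bc M j' _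
  · rw [Matrix.fromBlocks_apply₂₂]
    simp only [Matrix.submatrix_apply, id_eq]
    rw [Wmat_Phi_ge Z M _ (by rw [rowEquiv_inr]; omega)]
    have e : bc M ⟨n - 1 - (rowEquiv M (Sum.inr l)).val, by
        have := (rowEquiv M (Sum.inr l)).isLt; rw [rowEquiv_inr] at this ⊢; omega⟩ = bcRev M l := by
      unfold bcRev
      have e2 : (rowEquiv M (Sum.inr l)).val = M.1 + 1 + l.val := rowEquiv_inr M l
      simp only [e2]
    rw [e]
    show (if bcRev M l' = bcRev M l then (1 : R) else 0) = (1 : Matrix _ _ R) l l'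
    rw [Matrix.one_apply]
    by_cases h : l = l'
    · rw [if_pos h, if_pos (by rw [h])]
    · rw [if_neg h, if_neg]
      intro h2
      exact h (bcRev_injective M h2).symm

/-- A minor of `Z` is, up to sign, a maximal minor of `[Z ; J]`. -/
theorem pM_Wmat_Phi (Z : Matrix (Fin m) (Fin n) R) (M : MinorIdx m n) :
    pM (Wmat Z) (Phi M).1 =
      ((uSign M : ℤ) : R) * (Z.submatrix (rowsOf M).1 (colsOf M).1).det := by
  set N := (Wmat Z).submatrix (Phi M).1 id with hN
  have h1 : (N.submatrix (rowEquiv M) (colEquiv M)).det =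
      (Z.submatrix (rowsOf M).1 (colsOf M).1).det := by
    rw [hN, block_eq, Matrix.det_fromBlocks_zero₂₁, Matrix.det_one, mul_one]
  have h2 : N.submatrix (rowEquiv M) (colEquiv M) =
      (N.submatrix id ((rowEquiv M).symm.trans (colEquiv M))).submatrix (rowEquiv M) (rowEquiv M) := by
    apply Matrix.ext
    intro a b
    simp only [Matrix.submatrix_apply, id_eq, Equiv.trans_apply, Equiv.symm_apply_apply]
  rw [h2, Matrix.det_submatrix_equiv_self, Matrix.det_permute'] at h1
  have h3 : pM (Wmat Z) (Phi M).1 = N.det := rfl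
  rw [h3, ← h1, ← mul_assoc]
  have h4 : ((uSign M : ℤ) : R) * ((uSign M : ℤ) : R) = 1 := by
    rw [← Int.cast_mul, Int.units_coe_mul_self, Int.cast_one]
  unfold uSign at h4 ⊢
  rw [h4, one_mul]

/-- The top maximal minor of `[Z ; J]` is a sign. -/
def uTop (n : ℕ) : ℤˣ := Equiv.Perm.sign (Fin.revPerm : Equiv.Perm (Fin n))

theorem pM_Wmat_topN (Z : Matrix (Fin m) (Fin n) R) :
    pM (Wmat Z) (topN m n).1 = ((uTop n : ℤ) : R) := by
  have e : (Wmat Z).submatrix (topN m n).1 id =
      (1 : Matrix (Fin n) (Fin n) R).submatrix (Fin.revPerm : Equiv.Perm (Fin n)) id := by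
    apply Matrix.ext
    intro p c
    simp only [Matrix.submatrix_apply, id_eq, Wmat, Matrix.of_apply, Matrix.one_apply]
    have h1 : ¬ ((topN m n).1 p).val < m := by rw [topN_val]; omega
    rw [dif_neg h1, topN_val]
    have hp := p.isLt
    have hc := c.isLt
    by_cases h : Fin.revPerm p = c
    · rw [if_pos h, if_pos]
      rw [← h]
      simp only [Fin.revPerm_apply, Fin.val_rev]
      omega
    · rw [if_neg h, if_neg]
      intro h2
      apply h
      apply Fin.ext
      simp only [Fin.revPerm_apply, Fin.val_rev]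
      omega
  unfold pM
  rw [e, Matrix.det_permute, Matrix.det_one, mul_one]
  rfl

end Groth.Agent.Lib.Helper6.Det

end
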